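import Mathlib.GroupTheory.FiniteAbelian.Duality
import Mathlib.RingTheory.RootsOfUnity.AlgebraicallyClosed
import Mathlib.Analysis.Complex.Polynomial.Basic
import Mathlib.GroupTheory.OrderOfElement

/-!
# Linear characters of a finite abelian group with a single involution
-/

set_option autoImplicit false

namespace Cfsg.Agent.BSWall

variable {A : Type*} [CommGroup A] [Finite A]

instance instFiniteDualBSWall : Finite (A →* ℂˣ) :=
  Finite.of_equiv _ (CommGroup.monoidHom_mulEquiv_of_hasEnoughRootsOfUnity A ℂ).some.toEquiv.symm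

theorem card_dual : Nat.card (A →* ℂˣ) = Nat.card A :=
  CommGroup.card_monoidHom_of_hasEnoughRootsOfUnity A ℂ

theorem sum_dual_eval [Fintype (A →* ℂˣ)] {x : A} (hx : x ≠ 1) :
    ∑ μ : A →* ℂˣ, ((μ x : ℂˣ) : ℂ) = 0 := by
  obtain ⟨ν, hν⟩ := CommGroup.exists_apply_ne_one_of_hasEnoughRootsOfUnity A ℂ hx
  have h : ((ν x : ℂˣ) : ℂ) * ∑ μ : A →* ℂˣ, ((μ x : ℂˣ) : ℂ) = ∑ μ : A →* ℂˣ, ((μ x : ℂˣ) : ℂ) := by
    rw [Finset.mul_sum]
    exact Fintype.sum_equiv (Equiv.mulLeft ν) _ _ fun μ => by simp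
  have h1 : ((ν x : ℂˣ) : ℂ) - 1 ≠ 0 := by
    rw [sub_ne_zero]; exact fun e => hν (Units.ext e)
  exact (mul_eq_zero.1 (show (((ν x : ℂˣ) : ℂ) - 1) * ∑ μ : A →* ℂˣ, ((μ x : ℂˣ) : ℂ) = 0 by
    rw [sub_mul, h, one_mul, sub_self])).resolve_left h1

theorem exists_dual_order_two {t : A} (ht : t ≠ 1) (ht2 : t * t = 1)
    (huniq : ∀ x : A, x * x = 1 → x = 1 ∨ x = t) :
    ∃ μ₀ : A →* ℂˣ, μ₀ ≠ 1 ∧ μ₀ * μ₀ = 1 ∧ ∀ μ : A →* ℂˣ, μ * μ = 1 → μ = 1 ∨ μ = μ₀ := by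
  obtain ⟨e⟩ := CommGroup.monoidHom_mulEquiv_of_hasEnoughRootsOfUnity A ℂ
  refine ⟨e.symm t, fun h => ht (by simpa using congrArg e h), by rw [← map_mul, ht2, map_one],
    fun μ hμ => ?_⟩
  rcases huniq (e μ) (by rw [← map_mul, hμ, map_one]) with h | h
  · exact Or.inl (e.injective (h.trans (map_one e).symm))
  · exact Or.inr (by rw [← h, MulEquiv.symm_apply_apply])

theorem exists_dual_not_order_two {t : A} (huniq : ∀ x : A, x * x = 1 → x = 1 ∨ x = t)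
    (h4 : 2 < Nat.card A) : ∃ μ : A →* ℂˣ, μ * μ ≠ 1 := by
  classical
  obtain ⟨e⟩ := CommGroup.monoidHom_mulEquiv_of_hasEnoughRootsOfUnity A ℂ
  suffices h : ∃ x : A, x * x ≠ 1 by
    obtain ⟨x, hx⟩ := h
    refine ⟨e.symm x, fun h => hx ?_⟩
    simpa using congrArg e h
  by_contra! h
  haveI := Fintype.ofFinite A
  have h1 : (Finset.univ : Finset A) ⊆ {1, t} := fun x _ => by
    rcases huniq x (h x) with e1 | e1 <;> simp [e1]
  have h2 := (Finset.card_le_card h1).trans Finset.card_le_two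
  rw [Finset.card_univ, ← Nat.card_eq_fintype_card] at h2
  omega

end Cfsg.Agent.BSWall
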