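import Cfsg.Agent.BSWall.Setup
import Cfsg.Agent.BSWall.Duality
import Cfsg.Agent.S0840
import Cfsg.Agent.Char.Linear
import Cfsg.Agent.Char.Virtual
import Cfsg.Agent.CharInd.GenChar
import Cfsg.Agent.CharInd.TI

/-!
# The class functions induced from `1 - μ` and their values
-/

set_option autoImplicit false

open scoped ComplexConjugate
open Cfsg

namespace Cfsg.Agent.BSWall

variable {G : Type*} [Group G] [Fintype G] {t s : G} {K : Subgroup G}

/-- `(1 - μ)^G`. -/
noncomputable def alpha (K : Subgroup G) (μ : K →* ℂˣ) : G → ℂ :=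
  Cfsg.indFun K (fun x => 1 - ((μ x : ℂˣ) : ℂ))

theorem alpha_class (μ : K →* ℂˣ) : IsClassFunction G (alpha K μ) :=
  CharInd.indFun_isClassFunction K _

theorem alpha_genChar (μ : K →* ℂˣ) : IsGeneralizedCharacter G (alpha K μ) :=
  CharInd.genChar_indFun K (CharInd.genChar_sub
    (Char.isGeneralizedCharacter_of_irr Char.isIrrCharacter_const_one)
    (Char.isGeneralizedCharacter_of_irr (Char.isIrrCharacter_monoidHom μ)))

theorem alpha_one (μ : K →* ℂˣ) : alpha K μ 1 = 0 :=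
  CharInd.indFun_one_eq_zero K (by simp)

theorem alpha_outside (μ : K →* ℂˣ) {y : G} (hy : Outside K y) : alpha K μ y = 0 :=
  CharInd.indFun_eq_zero_of_forall K _ hy

theorem conj_unit_eq_inv {x : K} (μ : K →* ℂˣ) :
    conj ((μ x : ℂˣ) : ℂ) = ((μ x⁻¹ : ℂˣ) : ℂ) :=
  (Char.irr_inv (Char.isIrrCharacter_monoidHom μ) x).symm

namespace Hyp

variable (h : Hyp t K s)
include h

theorem alpha_mem (μ : K →* ℂˣ) (x : K) :
    alpha K μ x = 2 - ((μ x : ℂˣ) : ℂ) - ((μ x⁻¹ : ℂˣ) : ℂ) := by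
  classical
  by_cases hx : x = 1
  · subst hx; simp [alpha_one]; norm_num
  have hx1 : (x : G) ≠ 1 := fun e => hx (Subtype.ext e)
  rw [alpha, CharInd.indFun_apply]
  have key : ∀ g : G, Cfsg.extendByZero K (fun x => 1 - ((μ x : ℂˣ) : ℂ)) (g⁻¹ * x * g) =
      (if g ∈ K then 1 - ((μ x : ℂˣ) : ℂ) else 0) +
      (if g * s ∈ K then 1 - ((μ x⁻¹ : ℂˣ) : ℂ) else 0) := by
    intro g
    by_cases hgH : g ∈ Subgroup.centralizer ({t} : Set G)
    · by_cases hgK : g ∈ K
      · have hgs : g * s ∉ K := fun e => h.sK ((K.mul_mem_cancel_left hgK).1 e)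
        have e : g⁻¹ * x * g = x := by rw [mul_assoc, h.comm _ x.2 _ hgK, inv_mul_cancel_left]
        rw [if_pos hgK, if_neg hgs, add_zero, e, CharInd.extendByZero_mem K _ x.2]
      · have hgs := (h.mem_or g hgH).resolve_left hgK
        have hm : (g⁻¹ : G) ∉ K := fun e => hgK (by simpa using K.inv_mem e)
        have e : g⁻¹ * x * g = ((x⁻¹ : K) : G) := by
          simpa using h.inverts (inv_mem hgH) hm x.2
        rw [if_neg hgK, if_pos hgs, zero_add, e, CharInd.extendByZero_mem K _ (x⁻¹).2]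
    · have hgK : g ∉ K := fun e => hgH (h.leH e)
      have hgs : g * s ∉ K := fun e => hgH (by
        have := mul_mem (h.leH e) h.sH
        rwa [Invol.cancel_mul_self h.hs] at this)
      rw [if_neg hgK, if_neg hgs, add_zero]
      refine CharInd.extendByZero_notMem K _ fun e => hgH ?_
      simpa using inv_mem (h.mem_H_of_conj x.2 hx1 (g := g⁻¹) (by simpa using e))
  simp only [key, Finset.sum_add_distrib]
  rw [← Finset.sum_filter, ← Finset.sum_filter, Finset.sum_const, Finset.sum_const, nsmul_eq_mul,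
    nsmul_eq_mul]
  have c1 : ({g | g ∈ K} : Finset G).card = Nat.card K := by
    rw [Nat.card_eq_fintype_card, ← Fintype.card_subtype]
  have c2 : ({g | g * s ∈ K} : Finset G).card = Nat.card K := by
    rw [← c1]
    refine Finset.card_nbij' (fun g => g * s) (fun g => g * s) ?_ ?_ ?_ ?_
    · intro g hg; simpa using hg
    · intro g hg; simpa [Invol.cancel_mul_self h.hs] using hg
    · intro g _; simp [Invol.cancel_mul_self h.hs]
    · intro g _; simp [Invol.cancel_mul_self h.hs]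
  rw [c1, c2]
  have hk : (Nat.card K : ℂ) ≠ 0 := Nat.cast_ne_zero.2 Nat.card_pos.ne'
  field_simp
  ring

theorem inner_alpha [DecidableEq (K →* ℂˣ)] {μ ν : K →* ℂˣ} (hμ : μ ≠ 1) (hν : ν ≠ 1) :
    classInner (alpha K μ) (alpha K ν) =
      2 + (if μ = ν then 1 else 0) + (if μ * ν = 1 then 1 else 0) := by
  classical
  rw [alpha, CharInd.classInner_indFun_left K _ (alpha_class ν)]
  have key : ∀ x : K, conj (alpha K ν (x : G)) =
      2 - ((ν x⁻¹ : ℂˣ) : ℂ) - ((ν x : ℂˣ) : ℂ) := by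
    intro x
    rw [h.alpha_mem ν x, map_sub, map_sub, Complex.conj_ofNat, conj_unit_eq_inv, conj_unit_eq_inv,
      inv_inv]
  simp only [Cfsg.classInner, key]
  have e1 : ∀ ρ : K →* ℂˣ, ∑ x : K, ((ρ x : ℂˣ) : ℂ) = if ρ = 1 then (Nat.card K : ℂ) else 0 := by
    intro ρ
    split_ifs with e
    · subst e; simp [Nat.card_eq_fintype_card]
    · exact Char.monoidHom_sum_eq_zero e
  have expand : ∀ x : K, (1 - ((μ x : ℂˣ) : ℂ)) * (2 - ((ν x⁻¹ : ℂˣ) : ℂ) - ((ν x : ℂˣ) : ℂ)) =
      2 * (((1 : K →* ℂˣ) x : ℂˣ) : ℂ) - (((ν⁻¹) x : ℂˣ) : ℂ) - ((ν x : ℂˣ) : ℂ)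
      - 2 * ((μ x : ℂˣ) : ℂ) + (((μ * ν⁻¹) x : ℂˣ) : ℂ) + (((μ * ν) x : ℂˣ) : ℂ) := by
    intro x
    simp only [MonoidHom.one_apply, MonoidHom.inv_apply, MonoidHom.mul_apply, Units.val_one,
      Units.val_mul, map_inv]
    ring
  simp only [expand, Finset.sum_add_distrib, Finset.sum_sub_distrib, ← Finset.mul_sum, e1]
  have hν' : ν⁻¹ ≠ 1 := fun e => hν (MonoidHom.ext fun x => inv_eq_one.1 (DFunLike.congr_fun e x))
  have e3 : (μ * ν⁻¹ = 1) = (μ = ν) := propext ⟨fun e => MonoidHom.ext fun x => mul_inv_eq_one.1 (DFunLike.congr_fun e x), fun e => by subst e; ext x; simp⟩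
  simp only [if_true, if_neg hν', if_neg hν, if_neg hμ, e3]
  have hk : (Nat.card K : ℂ) ≠ 0 := Nat.cast_ne_zero.2 Nat.card_pos.ne'
  split_ifs <;> field_simp <;> ring

theorem inner_alpha_one {μ : K →* ℂˣ} (hμ : μ ≠ 1) :
    classInner (alpha K μ) (fun _ => (1 : ℂ)) = 1 := by
  classical
  rw [alpha, CharInd.classInner_indFun_left K _ (fun _ _ => rfl)]
  simp only [Cfsg.classInner, map_one, mul_one, Finset.sum_sub_distrib, Finset.sum_const,
    Finset.card_univ, nsmul_eq_mul, mul_one, Char.monoidHom_sum_eq_zero hμ, sub_zero,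
    ← Nat.card_eq_fintype_card]
  exact inv_mul_cancel₀ (Nat.cast_ne_zero.2 Nat.card_pos.ne')

theorem value_formula [Fintype (K →* ℂˣ)] {χ : G → ℂ} (hχ : IsClassFunction G χ) {x : K}
    (hx : x ≠ 1) :
    χ (x : G) = -∑ μ : K →* ℂˣ, conj (classInner (alpha K μ) χ) * ((μ x : ℂˣ) : ℂ) := by
  classical
  letI : CommGroup K :=
    { K.toGroup with mul_comm := fun a b => Subtype.ext (h.comm _ a.2 _ b.2) }
  have hc : ∀ μ : K →* ℂˣ, conj (classInner (alpha K μ) χ) =
      (Nat.card K : ℂ)⁻¹ * ∑ y : K, (1 - ((μ y⁻¹ : ℂˣ) : ℂ)) * χ y := by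
    intro μ
    rw [alpha, CharInd.classInner_indFun_left K _ hχ]
    simp only [Cfsg.classInner, map_mul, map_inv₀, map_natCast, map_sum, Complex.conj_conj, map_sub,
      map_one, conj_unit_eq_inv]
  simp only [hc, mul_assoc, Finset.sum_mul, ← Finset.mul_sum]
  rw [Finset.sum_comm]
  have hin : ∀ y : K, ∑ μ : K →* ℂˣ, (1 - ((μ y⁻¹ : ℂˣ) : ℂ)) * (χ y * ((μ x : ℂˣ) : ℂ)) =
      χ y * (if y = x then -(Nat.card K : ℂ) else 0) := by
    intro y
    have e : ∀ μ : K →* ℂˣ, (1 - ((μ y⁻¹ : ℂˣ) : ℂ)) * (χ y * ((μ x : ℂˣ) : ℂ)) =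
        χ y * (((μ x : ℂˣ) : ℂ) - ((μ (y⁻¹ * x) : ℂˣ) : ℂ)) := fun μ => by
      rw [map_mul, Units.val_mul]; ring
    simp only [e, ← Finset.mul_sum, Finset.sum_sub_distrib, sum_dual_eval hx, zero_sub]
    split_ifs with hyx
    · subst hyx
      simp [Finset.card_univ, ← Nat.card_eq_fintype_card, card_dual]
    · rw [sum_dual_eval (fun e => hyx (inv_mul_eq_one.1 e)), neg_zero]
  simp only [hin, mul_ite, mul_zero, Finset.sum_ite_eq', Finset.mem_univ, if_true]
  field_simp [Nat.cast_ne_zero.2 (Nat.card_pos (α := K)).ne']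

open scoped Classical in
theorem sum_split (f : G → ℂ) (hf : ∀ g c : G, f (c * g * c⁻¹) = f g) :
    ∑ y : G, f y = f 1 + (nInv G : ℂ) * (∑ x : K with x ≠ 1, f x)
      + ∑ y with Outside K y, f y := by
  classical
  have h1 := sum_intoConj K _ (fun g hg x hx => h.conj_mem hg hx)
    (fun g x hx hx1 hgx => h.mem_H_of_conj hx hx1 hgx) f hf
  rw [h.index_H, nsmul_eq_mul] at h1
  have h2 : ∑ y with IntoConj K y, f y + ∑ y with Outside K y, f y =
      ∑ y ∈ Finset.univ.erase (1 : G), f y := by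
    rw [← Finset.sum_filter_add_sum_filter_not (Finset.univ.erase (1 : G)) (IntoConj K)]
    congr 1
    · refine Finset.sum_congr ?_ fun _ _ => rfl
      ext y
      simp only [Finset.mem_filter, Finset.mem_univ, true_and, Finset.mem_erase, and_true]
      exact ⟨fun hy => ⟨hy.1, hy⟩, And.right⟩
    · refine Finset.sum_congr ?_ fun _ _ => rfl
      ext y
      simp only [Finset.mem_filter, Finset.mem_univ, true_and, Finset.mem_erase, and_true]
      exact outside_iff
  rw [add_assoc, ← Finset.add_sum_erase _ _ (Finset.mem_univ (1 : G)), ← h2, h1]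

theorem cnt_formula (y : G) :
    (cnt y : ℂ) = (nInv G : ℂ) * (nInv G : ℂ) / (Nat.card G : ℂ) *
      ∑ χ : IrrCharacter G, (χ : G → ℂ) t * (χ : G → ℂ) t * conj ((χ : G → ℂ) y) /
        (χ : G → ℂ) 1 := by
  have hc : ∀ u : G, orderOf u = 2 ↔ IsConj t u := fun u =>
    ⟨fun hu => h.conj t u h.ht hu, fun hu => (Invol.orderOf_eq_of_isConj hu).symm.trans h.ht⟩
  have e1 : Nat.card {x : G // IsConj t x} = nInv G :=
    Nat.card_congr (Equiv.subtypeEquivRight fun u => (hc u).symm)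
  have e2 : Nat.card {p : G × G // IsConj t p.1 ∧ IsConj t p.2 ∧ p.1 * p.2 = y} = cnt y := by
    refine Nat.card_congr
      { toFun := fun p => ⟨p.1.1, (hc _).2 p.2.1, by
          have : p.1.2 = p.1.1 * y :=
            (Invol.mul_self_cancel ((hc _).2 p.2.1) p.1.2).symm.trans (congrArg (p.1.1 * ·) p.2.2.2)
          rw [← this]; exact (hc _).2 p.2.2.1⟩
        invFun := fun u => ⟨(u.1, u.1 * y), (hc _).1 u.2.1, (hc _).1 u.2.2,
          Invol.mul_self_cancel u.2.1 y⟩
        left_inv := fun p => Subtype.ext (Prod.ext rfl (by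
          exact (congrArg (p.1.1 * ·) p.2.2.2).symm.trans
            (Invol.mul_self_cancel ((hc _).2 p.2.1) p.1.2)))
        right_inv := fun u => rfl }
  have := S0840.result t t y
  rw [e1, e2, finsum_eq_sum_of_fintype] at this
  exact this

end Hyp

end Cfsg.Agent.BSWall
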