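import Cfsg.Agent.BSWall.CaseB
import Mathlib.GroupTheory.SchurZassenhaus
import Mathlib.GroupTheory.Nilpotent

/-!
# The case `|G| = q(q+1)(q-1)/2` with `q = 2|K| - 1`
-/

set_option autoImplicit false

namespace Cfsg.Agent.BSWall

open Subgroup

variable {G : Type*} [Group G]

/-- The elements outside the conjugates of `K` that no involution inverts. -/
def R0 (K : Subgroup G) (y : G) : Prop := Outside K y ∧ cnt y = 0

/-- The data of this case. -/
structure AHyp (t : G) (K : Subgroup G) (s : G) : Prop where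
  hyp : Hyp t K s
  nI : nInv G = (2 * Nat.card K - 1) * (Nat.card K - 1)
  val : ∀ y, Outside K y → cnt y = 0 ∨ cnt y = Nat.card K - 1
  num : Nat.card {y : G // Outside K y ∧ cnt y = 0} = (2 * Nat.card K - 1) ^ 2 - 1

theorem R0.conj {K : Subgroup G} {y : G} (h : R0 K y) (c : G) : R0 K (c * y * c⁻¹) :=
  ⟨outside_conj h.1 c, by rw [cnt_conj, h.2]⟩

namespace AHyp

variable [Finite G] {t s : G} {K : Subgroup G} (h : AHyp t K s)
include h

theorem two_le_k : 2 ≤ Nat.card K := Nat.le_of_dvd Nat.card_pos h.hyp.two_dvd_k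

theorem card_G_eq :
    Nat.card G = (2 * Nat.card K - 1) * (2 * Nat.card K * (Nat.card K - 1)) := by
  rw [h.hyp.card_G, h.nI]; ring

theorem not_conj_inv {y : G} (hy : R0 K y) (c : G) : c * y * c⁻¹ ≠ y⁻¹ := fun e => by
  obtain ⟨u, hu, hiu⟩ := h.hyp.exists_inverting_of_conj_inv hy.1 e
  exact h.hyp.cnt_ne_zero hy.1 hu hiu hy.2

theorem R0_of_commute {y x : G} (hy : R0 K y) (hx1 : x ≠ 1) (hc : Commute y x) : R0 K x := by
  have hx := h.hyp.outside_of_commute hy.1 hx1 hc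
  refine ⟨hx, ?_⟩
  by_contra hne
  obtain ⟨u, hu, hiu⟩ := Hyp.exists_inverting hne
  exact h.hyp.cnt_ne_zero hy.1 hu
    (h.hyp.real_inverted hx hu hiu (Subgroup.mem_centralizer_singleton_iff.2 hc)) hy.2

theorem coprime_centralizer {y : G} (hy : R0 K y) :
    Nat.Coprime (Nat.card (centralizer ({y} : Set G))) (2 * Nat.card K * (Nat.card K - 1)) := by
  classical
  refine Nat.coprime_of_dvd fun p hp hd hd' => ?_
  haveI := Fact.mk hp
  obtain ⟨⟨z, hz⟩, hzp⟩ := exists_prime_orderOf_dvd_card' (G := centralizer ({y} : Set G)) p hd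
  rw [Subgroup.orderOf_mk] at hzp
  have hz1 : z ≠ 1 := fun e => by rw [e, orderOf_one] at hzp; exact hp.one_lt.ne hzp
  have hzR : R0 K z :=
    h.R0_of_commute hy hz1 (Subgroup.mem_centralizer_singleton_iff.1 hz).symm
  have hzP : IsPGroup p (zpowers z) := IsPGroup.of_card (n := 1) (by rw [Nat.card_zpowers, hzp, pow_one])
  obtain ⟨P, hP⟩ := hzP.exists_le_sylow
  have hzP' : z ∈ (P : Subgroup G) := hP (mem_zpowers z)
  haveI : Nontrivial (P : Subgroup G) := ⟨⟨⟨z, hzP'⟩, 1, fun e => hz1 (congrArg Subtype.val e)⟩⟩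
  haveI := P.isPGroup'.center_nontrivial
  obtain ⟨w, hw⟩ := exists_ne (1 : center (P : Subgroup G))
  have hw1 : ((w : (P : Subgroup G)) : G) ≠ 1 := fun e => hw (Subtype.ext (Subtype.ext e))
  have hwx : ∀ x ∈ (P : Subgroup G), Commute ((w : (P : Subgroup G)) : G) x := fun x hx =>
    (congrArg Subtype.val (Subgroup.mem_center_iff.1 w.2 ⟨x, hx⟩)).symm
  have hwR := h.R0_of_commute hzR hw1 (hwx z hzP').symm
  have hall : ∀ e : G, orderOf e = p → R0 K e := by
    intro e he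
    have heP : IsPGroup p (zpowers e) := IsPGroup.of_card (n := 1) (by rw [Nat.card_zpowers, he, pow_one])
    obtain ⟨P', hP'⟩ := heP.exists_le_sylow
    obtain ⟨c, rfl⟩ := MulAction.exists_smul_eq G P P'
    have hm := hP' (mem_zpowers e)
    rw [Sylow.coe_subgroup_smul, Subgroup.mem_pointwise_smul_iff_inv_smul_mem] at hm
    have hm' : c⁻¹ * e * c ∈ (P : Subgroup G) := by simpa [MulAut.conj_inv_apply] using hm
    have he1 : c⁻¹ * e * c ≠ 1 := fun e' => by
      have : e = 1 := by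
        have := congrArg (fun v => c * v * c⁻¹) e'
        simpa [mul_assoc] using this
      rw [this, orderOf_one] at he; exact hp.one_lt.ne he
    have := (h.R0_of_commute hwR he1 (hwx _ hm')).conj c
    simpa [mul_assoc] using this
  rcases (Nat.Prime.dvd_mul hp).1 hd' with h2k | hk1
  · rcases (Nat.Prime.dvd_mul hp).1 h2k with h2 | hk
    · refine h.hyp.not_two_dvd_centralizer hy.1 ?_
      rw [← (Nat.prime_dvd_prime_iff_eq hp Nat.prime_two).1 h2]; exact hd
    · obtain ⟨⟨e, he⟩, hep⟩ := exists_prime_orderOf_dvd_card' (G := K) p hk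
      rw [Subgroup.orderOf_mk] at hep
      exact (hall e hep).1 1 (by simpa using he)
  · have hk2 : Nat.card K ≠ 2 := fun e => hp.one_lt.ne' (Nat.dvd_one.1 (by rw [e] at hk1; exact hk1))
    obtain ⟨y', hy', hy'c⟩ : ∃ y', Outside K y' ∧ cnt y' ≠ 0 := by
      by_contra! hall0
      have e : Nat.card {v : G // Outside K v} = Nat.card {v : G // Outside K v ∧ cnt v = 0} :=
        Nat.card_congr (Equiv.subtypeEquivRight fun v => ⟨fun hv => ⟨hv, hall0 v hv⟩, And.left⟩)
      have h1 := h.hyp.card_outside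
      rw [e, h.num, h.card_G_eq, h.nI] at h1
      obtain ⟨m, hm⟩ : ∃ m, Nat.card K = m + 1 := ⟨Nat.card K - 1, by have := h.two_le_k; omega⟩
      rw [hm, show 2 * (m + 1) - 1 = 2 * m + 1 by omega, Nat.add_sub_cancel] at h1
      have hsq : (2 * m + 1) ^ 2 - 1 + 1 = (2 * m + 1) ^ 2 :=
        Nat.sub_add_cancel (Nat.one_le_pow _ _ (by omega))
      have h2 : m * m = 1 := Nat.eq_of_mul_eq_mul_left (Nat.succ_pos (2 * m)) (by linarith)
      have := Nat.eq_one_of_mul_eq_one_right h2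
      omega
    obtain ⟨u, hu, hiu⟩ := Hyp.exists_inverting hy'c
    have hA : Nat.card (centralizer ({y'} : Set G)) = Nat.card K - 1 := by
      rw [← h.hyp.cnt_eq_card hy' hu hiu]; exact (h.val y' hy').resolve_left hy'c
    rw [← hA] at hk1
    obtain ⟨⟨e, he⟩, hep⟩ := exists_prime_orderOf_dvd_card' (G := centralizer ({y'} : Set G)) p hk1
    rw [Subgroup.orderOf_mk] at hep
    have hR := hall e hep
    exact h.hyp.cnt_ne_zero hR.1 hu (h.hyp.real_inverted hy' hu hiu he) hR.2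

theorem exists_R0 : ∃ y, R0 K y := by
  have h1 : Nat.card {y : G // R0 K y} ≠ 0 := by
    rw [show Nat.card {y : G // R0 K y} = _ from h.num]
    have := h.two_le_k
    have h3 : 9 ≤ (2 * Nat.card K - 1) ^ 2 := Nat.pow_le_pow_left (show 3 ≤ _ by omega) 2
    omega
  obtain ⟨⟨y, hy⟩⟩ := (Nat.card_ne_zero.1 h1).1
  exact ⟨y, hy⟩

theorem classes {y : G} (hy : R0 K y) :
    Nat.card (centralizer ({y} : Set G)) = 2 * Nat.card K - 1 ∧
      ∀ x, R0 K x → IsConj y x ∨ IsConj y⁻¹ x := by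
  classical
  haveI := Fintype.ofFinite G
  have hinvC : centralizer ({y⁻¹} : Set G) = centralizer ({y} : Set G) := by
    ext a
    simp only [Subgroup.mem_centralizer_singleton_iff]
    exact ⟨fun e => (Commute.inv_right_iff.1 e :), fun e => (Commute.inv_right e :)⟩
  have hyi : R0 K y⁻¹ :=
    h.R0_of_commute hy (fun e => hy.1.ne_one (inv_eq_one.1 e)) (Commute.inv_right (Commute.refl y))
  obtain ⟨A, hAdef⟩ : ∃ A : Set G, A = conjugatesOf y ∪ conjugatesOf y⁻¹ := ⟨_, rfl⟩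
  have hsub : A ⊆ {x | R0 K x} := by
    rw [hAdef]
    rintro x (hx | hx) <;> obtain ⟨c, rfl⟩ := isConj_iff.1 hx
    · exact hy.conj c
    · exact hyi.conj c
  have hdisj : Disjoint (conjugatesOf y) (conjugatesOf y⁻¹) := by
    rw [Set.disjoint_left]
    intro x hx hx'
    obtain ⟨c, hc⟩ := isConj_iff.1 ((hx : IsConj y x).trans (hx' : IsConj y⁻¹ x).symm)
    exact h.not_conj_inv hy c hc
  have n1 := ClassSize.card_centralizer_mul_ncard_conjugatesOf y
  have n2 := ClassSize.card_centralizer_mul_ncard_conjugatesOf y⁻¹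
  rw [hinvC] at n2
  have hcardR : ({x | R0 K x} : Set G).ncard = (2 * Nat.card K - 1) ^ 2 - 1 := by
    rw [← Nat.card_coe_set_eq]; exact h.num
  have hle : A.ncard ≤ (2 * Nat.card K - 1) ^ 2 - 1 :=
    hcardR ▸ Set.ncard_le_ncard hsub (Set.toFinite _)
  have hAc : A.ncard = (conjugatesOf y).ncard + (conjugatesOf y⁻¹).ncard := by
    rw [hAdef, Set.ncard_union_eq hdisj (Set.toFinite _) (Set.toFinite _)]
  have hdvd : Nat.card (centralizer ({y} : Set G)) ∣ 2 * Nat.card K - 1 := by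
    refine (h.coprime_centralizer hy).dvd_of_dvd_mul_right ?_
    rw [← h.card_G_eq]; exact Subgroup.card_subgroup_dvd_card _
  obtain ⟨m, hm⟩ : ∃ m, Nat.card K = m + 1 := ⟨Nat.card K - 1, by have := h.two_le_k; omega⟩
  have hm1 : 1 ≤ m := by have := h.two_le_k; omega
  rw [h.card_G_eq, hm, show 2 * (m + 1) - 1 = 2 * m + 1 by omega, Nat.add_sub_cancel] at n1 n2
  rw [hm, show 2 * (m + 1) - 1 = 2 * m + 1 by omega] at hdvd hle hcardR ⊢
  have hsq : (2 * m + 1) ^ 2 - 1 = 4 * (m + 1) * m := by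
    rw [show (2 * m + 1) ^ 2 = 4 * (m + 1) * m + 1 by ring, Nat.add_sub_cancel]
  rw [hsq] at hle hcardR
  obtain ⟨b, hb⟩ := hdvd
  have hpos : 0 < Nat.card (centralizer ({y} : Set G)) := Nat.card_pos
  have e1 : (conjugatesOf y).ncard = b * (2 * (m + 1) * m) :=
    Nat.eq_of_mul_eq_mul_left hpos (by rw [n1, hb]; ring)
  have e2 : (conjugatesOf y⁻¹).ncard = b * (2 * (m + 1) * m) :=
    Nat.eq_of_mul_eq_mul_left hpos (by rw [n2, hb]; ring)
  rw [hAc, e1, e2] at hle
  have hb1 : b = 1 := by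
    rcases Nat.lt_trichotomy b 1 with hb0 | hb0 | hb0
    · interval_cases b; simp at hb
    · exact hb0
    · have := Nat.mul_le_mul_right (2 * (m + 1) * m) (show 2 ≤ b by omega)
      have : 0 < (m + 1) * m := by positivity
      linarith
  subst hb1
  rw [mul_one] at hb
  refine ⟨hb.symm, fun x hx => ?_⟩
  have hA : A = {x | R0 K x} := by
    refine Set.eq_of_subset_of_ncard_le hsub ?_ (Set.toFinite _)
    rw [hcardR, hAc, e1, e2]; ring_nf; rfl
  have hxA : x ∈ A := by rw [hA]; exact hx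
  rw [hAdef] at hxA
  exact hxA

/-- All elements of `R0` have the same prime order `r`, and `q` is a power of `r`. -/
theorem exists_prime :
    ∃ r : ℕ, r.Prime ∧ (∀ y, R0 K y → orderOf y = r) ∧ (∃ e, 2 * Nat.card K - 1 = r ^ e) ∧
      ¬ r ∣ 2 * Nat.card K * (Nat.card K - 1) := by
  obtain ⟨y, hy⟩ := h.exists_R0
  have hq := (h.classes hy).1
  have hk := h.two_le_k
  obtain ⟨r, hr, hrd⟩ := Nat.exists_prime_and_dvd (show 2 * Nat.card K - 1 ≠ 1 by omega)
  have key : ∀ p : ℕ, p.Prime → p ∣ 2 * Nat.card K - 1 → ∃ z, R0 K z ∧ orderOf z = p := by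
    intro p hp hd
    haveI := Fact.mk hp
    obtain ⟨⟨z, hz⟩, hzp⟩ := exists_prime_orderOf_dvd_card' (G := centralizer ({y} : Set G)) p
      (by rw [hq]; exact hd)
    rw [Subgroup.orderOf_mk] at hzp
    have hz1 : z ≠ 1 := fun e => by rw [e, orderOf_one] at hzp; exact hp.one_lt.ne hzp
    exact ⟨z, h.R0_of_commute hy hz1 (Subgroup.mem_centralizer_singleton_iff.1 hz).symm, hzp⟩
  obtain ⟨z, hz, hzr⟩ := key r hr hrd
  have hall : ∀ x, R0 K x → orderOf x = r := by
    intro x hx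
    rcases (h.classes hz).2 x hx with e | e
    · rw [← Invol.orderOf_eq_of_isConj e, hzr]
    · rw [← Invol.orderOf_eq_of_isConj e, orderOf_inv, hzr]
  refine ⟨r, hr, hall, ⟨_, Nat.eq_prime_pow_of_unique_prime_dvd (by omega) fun {p} hp hd => ?_⟩, ?_⟩
  · obtain ⟨z', hz', hz'p⟩ := key p hp hd
    rw [← hz'p, hall z' hz']
  · exact fun hd => hr.one_lt.ne' (Nat.eq_one_of_dvd_coprimes (h.coprime_centralizer hy)
      (by rw [hq]; exact hrd) hd)

theorem abelian_ti {x : G} (hx1 : x ≠ 1) (ho : ¬ 2 ∣ orderOf x) (hR : ¬ R0 K x) :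
    (∀ a ∈ centralizer ({x} : Set G), ∀ b ∈ centralizer ({x} : Set G), a * b = b * a) ∧
    ∀ n : G, ¬ 2 ∣ orderOf n → n * x * n⁻¹ ∈ centralizer ({x} : Set G) →
      n ∈ centralizer ({x} : Set G) := by
  by_cases hx : Outside K x
  · have hc : cnt x ≠ 0 := fun e => hR ⟨hx, e⟩
    obtain ⟨u, hu, hiu⟩ := Hyp.exists_inverting hc
    refine ⟨fun a ha b hb => h.hyp.real_comm hx hu hiu ha hb, fun n hn hnx => ?_⟩
    have hA : Nat.card (centralizer ({x} : Set G)) = Nat.card K - 1 := by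
      rw [← h.hyp.cnt_eq_card hx hu hiu]; exact (h.val x hx).resolve_left hc
    obtain ⟨-, l, hl, hlk, h2l, hla⟩ := h.hyp.real_normalizer hx hu hiu
    rw [hA] at hla
    have hl2 : l ∣ 2 := by
      have := Nat.dvd_sub hlk hla
      rwa [show Nat.card K - (Nat.card K - 1 - 1) = 2 by have := h.two_le_k; omega] at this
    rw [Nat.dvd_antisymm hl2 h2l] at hl
    exact mem_of_odd_of_index_two Subgroup.le_normalizer hl
      (h.hyp.real_ti hx hu hiu n x (Subgroup.mem_centralizer_singleton_iff.2 rfl) hx1 hnx) hn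
  · simp only [Outside, not_forall, not_not] at hx
    obtain ⟨g, hg⟩ := hx
    obtain ⟨x0, hx0⟩ : ∃ x0, x0 = g⁻¹ * x * g := ⟨_, rfl⟩
    rw [← hx0] at hg
    have hxg : x = g * x0 * g⁻¹ := by rw [hx0]; simp [mul_assoc]
    have ho0 : orderOf x0 = orderOf x := by rw [hxg, Invol.orderOf_conj]
    have h01 : x0 ≠ 1 := fun e => hx1 (by rw [hxg, e]; simp)
    have h0t : x0 ≠ t := fun e => ho (by rw [← ho0, e, h.hyp.ht])
    have hC : centralizer ({x} : Set G) = K.map (MulAut.conj g).toMonoidHom := by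
      rw [hxg, centralizer_conj, h.hyp.centralizer_eq hg h01 h0t]
    rw [hC]
    constructor
    · rintro _ ⟨a, ha, rfl⟩ _ ⟨b, hb, rfl⟩
      rw [← map_mul, ← map_mul, h.hyp.comm a ha b hb]
    · intro n hn hnx
      obtain ⟨b, hb, hbn⟩ := hnx
      obtain ⟨m, hm⟩ : ∃ m, m = g⁻¹ * n * g := ⟨_, rfl⟩
      have hng : n = g * m * g⁻¹ := by rw [hm]; simp [mul_assoc]
      have hm1 : m * x0 * m⁻¹ ∈ K := by
        have e : g * b * g⁻¹ = n * x * n⁻¹ := hbn
        have : m * x0 * m⁻¹ = b := by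
          rw [hm, hx0]
          have := congrArg (fun v => g⁻¹ * v * g) e
          simpa [mul_assoc] using this.symm
        rw [this]; exact hb
      have hmH := h.hyp.mem_H_of_conj hg h01 hm1
      have hmK : m ∈ K := by
        by_contra hmK
        refine hn ?_
        rw [hng, Invol.orderOf_conj, h.hyp.invol_of_notMem hmH hmK]
      exact ⟨m, hmK, hng.symm⟩

theorem subsingleton_sylow (M : Subgroup G) (hodd : ¬ 2 ∣ Nat.card M) (r : ℕ) [Fact r.Prime]
    (hR : ∀ x ∈ M, ¬ r ∣ orderOf x → ¬ R0 K x) : Subsingleton (Sylow r M) := by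
  classical
  refine subsingleton_sylow_of_forall fun p hp hpr hpd S => fun n hn => ?_
  haveI := Fact.mk hp
  haveI : Nontrivial (S : Subgroup M) := by
    rw [Subgroup.nontrivial_iff_ne_bot]
    exact S.ne_bot_of_dvd_card hpd
  haveI := S.isPGroup'.center_nontrivial
  obtain ⟨w, hw⟩ := exists_ne (1 : center (S : Subgroup M))
  obtain ⟨x, hx⟩ : ∃ x : M, x = ((w : (S : Subgroup M)) : M) := ⟨_, rfl⟩
  have hx1 : (x : G) ≠ 1 := fun e => hw (Subtype.ext (Subtype.ext (hx ▸ Subtype.ext e)))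
  have hxS : x ∈ (S : Subgroup M) := hx ▸ (w : (S : Subgroup M)).2
  have hxc : ∀ a ∈ (S : Subgroup M), (a : G) ∈ centralizer ({(x : G)} : Set G) := fun a ha => by
    rw [Subgroup.mem_centralizer_singleton_iff, hx]
    exact congrArg (fun v : (S : Subgroup M) => ((v : M) : G))
      (Subgroup.mem_center_iff.1 w.2 ⟨a, ha⟩)
  have hxR : ¬ R0 K (x : G) := by
    refine hR _ x.2 fun hd => ?_
    obtain ⟨j, hj⟩ := S.isPGroup' ⟨x, hxS⟩
    have : (x : G) ^ p ^ j = 1 := congrArg (fun v : (S : Subgroup M) => ((v : M) : G)) hj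
    have hrp : r ∣ p ^ j := hd.trans (orderOf_dvd_of_pow_eq_one this)
    exact hpr ((Nat.prime_dvd_prime_iff_eq Fact.out hp).1
      ((Fact.out : r.Prime).dvd_of_dvd_pow hrp)).symm
  obtain ⟨hcomm, hmem⟩ := h.abelian_ti hx1 (odd_orderOf_of_odd_card hodd x.2) hxR
  have hnC := hmem n (odd_orderOf_of_odd_card hodd n.2)
    (hxc _ (((Subgroup.mem_normalizer_iff.1 hn) x).1 hxS))
  rw [Subgroup.mem_centralizer_iff]
  intro a ha
  exact Subtype.ext (hcomm _ (hxc a ha) _ hnC)

variable {r : ℕ} [Fact r.Prime]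

theorem sylow_centralizer (hr : ∀ y, R0 K y → orderOf y = r)
    (hq : ∃ e, 2 * Nat.card K - 1 = r ^ e) (hn : ¬ r ∣ 2 * Nat.card K * (Nat.card K - 1))
    {y : G} (hy : R0 K y) :
    ∃ P : Sylow r G, (P : Subgroup G) = centralizer ({y} : Set G) := by
  obtain ⟨e, he⟩ := hq
  have _ := hr y hy
  have hp : IsPGroup r (centralizer ({y} : Set G)) :=
    IsPGroup.of_card (n := e) (by rw [(h.classes hy).1, he])
  obtain ⟨P, hP⟩ := hp.exists_le_sylow
  refine ⟨P, (Subgroup.eq_of_le_of_card_ge hP ?_).symm⟩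
  obtain ⟨j, hj⟩ := IsPGroup.iff_card.1 P.isPGroup'
  have hd := (P : Subgroup G).card_subgroup_dvd_card
  rw [h.card_G_eq] at hd
  rw [(h.classes hy).1]
  refine Nat.le_of_dvd (by have := h.two_le_k; omega) ?_
  refine Nat.Coprime.dvd_of_dvd_mul_right ?_ hd
  rw [hj]
  exact Nat.Coprime.pow_left j ((Nat.Prime.coprime_iff_not_dvd Fact.out).2 hn)

theorem R0_of_mem_sylow (hr : ∀ y, R0 K y → orderOf y = r)
    (hq : ∃ e, 2 * Nat.card K - 1 = r ^ e) (hn : ¬ r ∣ 2 * Nat.card K * (Nat.card K - 1))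
    (P : Sylow r G) {x : G} (hx : x ∈ (P : Subgroup G)) (hx1 : x ≠ 1) : R0 K x := by
  obtain ⟨y, hy⟩ := h.exists_R0
  obtain ⟨P0, hP0⟩ := h.sylow_centralizer hr hq hn hy
  obtain ⟨c, rfl⟩ := MulAction.exists_smul_eq G P0 P
  rw [Sylow.coe_subgroup_smul, Subgroup.mem_pointwise_smul_iff_inv_smul_mem, hP0] at hx
  have hm : c⁻¹ * x * c ∈ centralizer ({y} : Set G) := by simpa [MulAut.conj_inv_apply] using hx
  have hm1 : c⁻¹ * x * c ≠ 1 := fun e => hx1 (by
    have := congrArg (fun v => c * v * c⁻¹) e; simpa [mul_assoc] using this)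
  have := (h.R0_of_commute hy hm1 (Subgroup.mem_centralizer_singleton_iff.1 hm).symm).conj c
  simpa [mul_assoc] using this

theorem sylow_inf_eq_bot (hr : ∀ y, R0 K y → orderOf y = r)
    (hq : ∃ e, 2 * Nat.card K - 1 = r ^ e) (hn : ¬ r ∣ 2 * Nat.card K * (Nat.card K - 1))
    {P Q : Sylow r G} (hPQ : P ≠ Q) : (P : Subgroup G) ⊓ Q = ⊥ := by
  classical
  by_contra hne
  haveI := Fintype.ofFinite (Sylow r G)
  obtain ⟨⟨P, Q⟩, hmem, hmax⟩ := Finset.exists_max_image
    ({p : Sylow r G × Sylow r G | p.1 ≠ p.2 ∧ (p.1 : Subgroup G) ⊓ p.2 ≠ ⊥} : Finset _)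
    (fun p => Nat.card ((p.1 : Subgroup G) ⊓ p.2 : Subgroup G)) ⟨(P, Q), by simp [hPQ, hne]⟩
  simp only [Finset.mem_filter, Finset.mem_univ, true_and] at hmem hmax
  obtain ⟨hPQ, hne⟩ := hmem
  obtain ⟨X, hX⟩ : ∃ X : Subgroup G, X = (P : Subgroup G) ⊓ Q := ⟨_, rfl⟩
  rw [← hX] at hne
  obtain ⟨x, hxX, hx1⟩ := X.bot_or_exists_ne_one.resolve_left hne
  have hR0X : ∀ z ∈ X, z ≠ 1 → R0 K z := fun z hz hz1 =>
    h.R0_of_mem_sylow hr hq hn P (hX ▸ hz : z ∈ (P : Subgroup G) ⊓ Q).1 hz1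
  obtain ⟨N, hN⟩ : ∃ N : Subgroup G, N = normalizer (X : Set G) := ⟨_, rfl⟩
  have hodd : ¬ 2 ∣ Nat.card N := by
    intro h2
    obtain ⟨⟨w, hwN⟩, hw⟩ := exists_prime_orderOf_dvd_card' (G := N) 2 h2
    rw [Subgroup.orderOf_mk] at hw
    rw [hN] at hwN
    let ψ : X →* X := ((MulAut.conj w).toMonoidHom.comp X.subtype).codRestrict _
      fun a => ((Subgroup.mem_normalizer_iff.1 hwN) a).1 a.2
    have hfp : MonoidHom.FixedPointFree ψ := by
      intro a ha'
      have h1 : w * (a : G) * w⁻¹ = a := congrArg Subtype.val ha'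
      by_contra ha1
      exact h.hyp.not_commute (hR0X a a.2 fun e => ha1 (Subtype.ext e)).1 hw
        (mul_inv_eq_iff_eq_mul.1 h1).symm
    have hinv : Function.Involutive ψ := fun a => Subtype.ext (by
      show w * (w * (a : G) * w⁻¹) * w⁻¹ = a
      simp [mul_assoc, Invol.inv_eq hw, Invol.mul_self_cancel hw, Invol.inv_mul_self hw])
    have e := congrArg Subtype.val (congrFun (hfp.coe_eq_inv_of_involutive hinv) ⟨x, hxX⟩)
    exact h.not_conj_inv (hR0X x hxX hx1) w e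
  have hsub : Subsingleton (Sylow r N) := h.subsingleton_sylow N hodd r fun z _ hz hzR =>
    hz (by rw [hr z hzR])
  obtain ⟨R⟩ : Nonempty (Sylow r N) := inferInstance
  obtain ⟨P', hP'⟩ := (R.isPGroup'.map N.subtype).exists_le_sylow
  have key : ∀ S : Sylow r G, X ≤ (S : Subgroup G) → ¬ (S : Subgroup G) ≤ X → S = P' := by
    intro S hXS hSX
    by_contra hSP
    have hSN : (S : Subgroup G) ⊓ N ≤ (P' : Subgroup G) := by
      obtain ⟨R', hR'⟩ :=
        ((S.isPGroup'.to_le inf_le_left).comap_subtype (K := N)).exists_le_sylow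
      rw [Subsingleton.elim R' R] at hR'
      exact fun v hv => hP' ⟨⟨v, hv.2⟩, hR' (show (⟨v, hv.2⟩ : N) ∈ _ from hv), rfl⟩
    have hlt : X.subgroupOf (S : Subgroup G) < ⊤ :=
      lt_top_iff_ne_top.2 fun e => hSX (Subgroup.subgroupOf_eq_top.1 e)
    haveI := S.isPGroup'.isNilpotent
    obtain ⟨v, hvn, hvX⟩ := SetLike.exists_of_lt
      (Group.normalizerCondition_of_isNilpotent _ hlt)
    have hvN : (v : G) ∈ N := by
      rw [hN, Subgroup.mem_normalizer_iff]
      intro z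
      constructor
      · intro hz
        exact ((Subgroup.mem_normalizer_iff.1 hvn) ⟨z, hXS hz⟩).1 hz
      · intro hz
        have hzS : z ∈ (S : Subgroup G) := by
          have := S.mul_mem (S.mul_mem (S.inv_mem v.2) (hXS hz)) v.2
          simpa [mul_assoc] using this
        exact ((Subgroup.mem_normalizer_iff.1 hvn) ⟨z, hzS⟩).2 hz
    have hvP' := hSN ⟨v.2, hvN⟩
    have hle : X ≤ (S : Subgroup G) ⊓ (P' : Subgroup G) := le_inf hXS fun z hz =>
      hSN ⟨hXS hz, by rw [hN]; exact Subgroup.le_normalizer hz⟩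
    have hlt' : X < (S : Subgroup G) ⊓ (P' : Subgroup G) :=
      lt_of_le_not_ge hle fun hge => hvX (hge ⟨v.2, hvP'⟩)
    have hbig := hmax (S, P') ⟨hSP, fun e => hne (le_bot_iff.1 (e ▸ hle))⟩
    rw [← hX] at hbig
    exact absurd (Subgroup.eq_of_le_of_card_ge hle hbig) hlt'.ne
  have hnle : ∀ S S' : Sylow r G, S ≠ S' → ¬ (S : Subgroup G) ≤ S' := fun S S' hne' hle =>
    hne' (Sylow.ext (Subgroup.eq_of_le_of_card_ge hle (by rw [S.card_eq_multiplicity, S'.card_eq_multiplicity])))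
  refine hPQ ((key P (hX ▸ inf_le_left) fun hle => hnle P Q hPQ ?_).trans
    (key Q (hX ▸ inf_le_right) fun hle => hnle Q P hPQ.symm ?_).symm)
  · exact hle.trans (hX ▸ inf_le_right)
  · exact hle.trans (hX ▸ inf_le_left)

omit [Fact r.Prime] in
theorem caseA : ∃ Q D : Subgroup G, Concl Q D := by
  classical
  obtain ⟨r, hrp, hr, hq, hn⟩ := h.exists_prime
  haveI := Fact.mk hrp
  have hk := h.two_le_k
  obtain ⟨Q⟩ : Nonempty (Sylow r G) := inferInstance
  have hQc : ∀ x ∈ (Q : Subgroup G), x ≠ 1 → centralizer ({x} : Set G) = Q := by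
    intro x hx hx1
    obtain ⟨P, hP⟩ := h.sylow_centralizer hr hq hn (h.R0_of_mem_sylow hr hq hn Q hx hx1)
    rw [← hP]
    congr 1
    by_contra hPQ
    have hm : x ∈ (P : Subgroup G) ⊓ Q := ⟨hP ▸ Subgroup.mem_centralizer_singleton_iff.2 rfl, hx⟩
    rw [h.sylow_inf_eq_bot hr hq hn hPQ] at hm
    exact hx1 (Subgroup.mem_bot.1 hm)
  have hR0Q : ∀ x, IntoConj (Q : Subgroup G) x ↔ R0 K x := by
    intro x
    constructor
    · rintro ⟨hx1, g, hg⟩
      have := (h.R0_of_mem_sylow hr hq hn Q hg fun e => hx1 (by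
        have := congrArg (fun v => g * v * g⁻¹) e; simpa [mul_assoc] using this)).conj g
      simpa [mul_assoc] using this
    · intro hx
      obtain ⟨P, hP⟩ := h.sylow_centralizer hr hq hn hx
      obtain ⟨c, rfl⟩ := MulAction.exists_smul_eq G Q P
      have hm : x ∈ ((c • Q : Sylow r G) : Subgroup G) := hP ▸ Subgroup.mem_centralizer_singleton_iff.2 rfl
      rw [Sylow.coe_subgroup_smul, Subgroup.mem_pointwise_smul_iff_inv_smul_mem] at hm
      exact ⟨hx.1.ne_one, c, by simpa [MulAut.conj_inv_apply] using hm⟩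
  have hQcard : Nat.card (Q : Subgroup G) = 2 * Nat.card K - 1 := by
    obtain ⟨y, hy⟩ := h.exists_R0
    obtain ⟨P, hP⟩ := h.sylow_centralizer hr hq hn hy
    rw [Q.card_eq_multiplicity, ← P.card_eq_multiplicity, hP, (h.classes hy).1]
  obtain ⟨N, hN⟩ : ∃ N : Subgroup G, N = normalizer ((Q : Subgroup G) : Set G) := ⟨_, rfl⟩
  have hcount := card_intoConj (Q : Subgroup G) N
    (fun g hg x hx => ((Subgroup.mem_normalizer_iff.1 (hN ▸ hg)) x).1 hx)
    (fun g x hx hx1 hgx => by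
      rw [hN, Subgroup.mem_normalizer_iff]
      intro z
      conv_lhs => rw [← hQc x hx hx1]
      conv_rhs => rw [← hQc _ hgx (fun e => hx1 (conj_eq_one_iff.1 e))]
      exact mem_centralizer_conj.symm)
  rw [Nat.card_congr (Equiv.subtypeEquivRight hR0Q), hQcard] at hcount
  have hnum : Nat.card {y : G // R0 K y} = (2 * Nat.card K - 1) ^ 2 - 1 := h.num
  rw [hnum] at hcount
  obtain ⟨m, hm⟩ : ∃ m, Nat.card K = m + 1 := ⟨Nat.card K - 1, by omega⟩
  have hm1 : 1 ≤ m := by omega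
  rw [hm, show 2 * (m + 1) - 1 = 2 * m + 1 by omega,
    show (2 * m + 1) ^ 2 = 4 * (m + 1) * m + 1 by ring, Nat.add_sub_cancel,
    Nat.add_sub_cancel] at hcount
  have hidx : N.index = 2 * (m + 1) :=
    Nat.eq_of_mul_eq_mul_right (show 0 < 2 * m by omega) (by rw [← hcount]; ring)
  have hNcard : Nat.card N = (2 * m + 1) * m := by
    have e := N.card_mul_index
    rw [hidx, h.card_G_eq, hm, show 2 * (m + 1) - 1 = 2 * m + 1 by omega, Nat.add_sub_cancel] at e
    exact Nat.eq_of_mul_eq_mul_right (show 0 < 2 * (m + 1) by omega) (by rw [e]; ring)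
  rw [hm, show 2 * (m + 1) - 1 = 2 * m + 1 by omega] at hQcard
  have hQN : (Q : Subgroup G) ≤ N := hN ▸ Subgroup.le_normalizer
  haveI : ((Q : Subgroup G).subgroupOf N).Normal := by subst hN; exact Subgroup.normal_in_normalizer
  have hQ' : Nat.card ((Q : Subgroup G).subgroupOf N) = 2 * m + 1 := by
    rw [Nat.card_congr (Subgroup.subgroupOfEquivOfLe hQN).toEquiv, hQcard]
  have hQidx : ((Q : Subgroup G).subgroupOf N).index = m := by
    have e := ((Q : Subgroup G).subgroupOf N).card_mul_index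
    rw [hQ', hNcard] at e
    exact Nat.eq_of_mul_eq_mul_left (Nat.succ_pos _) e
  have hcop : Nat.Coprime (2 * m + 1) m := by simp
  obtain ⟨D', hD'⟩ := Subgroup.exists_right_complement'_of_coprime
    (N := (Q : Subgroup G).subgroupOf N) (by rw [hQ', hQidx]; exact hcop)
  obtain ⟨D, hD⟩ : ∃ D : Subgroup G, D = D'.map N.subtype := ⟨_, rfl⟩
  have hDcard : Nat.card D = m := by
    have e := hD'.card_mul
    rw [hQ', hNcard] at e
    rw [hD, ← Nat.card_congr (D'.equivMapOfInjective N.subtype Subtype.val_injective).toEquiv]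
    exact Nat.eq_of_mul_eq_mul_left (Nat.succ_pos _) e
  have hDN : D ≤ N := by rw [hD]; exact Subgroup.map_subtype_le _
  have hQD : (Q : Subgroup G) ⊓ D = ⊥ :=
    Subgroup.inf_eq_bot_of_coprime (by rw [hQcard, hDcard]; exact hcop)
  have hsup : (Q : Subgroup G) ⊔ D = N := by
    refine Subgroup.eq_of_le_of_card_ge (sup_le hQN hDN) (Nat.le_of_dvd Nat.card_pos ?_)
    rw [hNcard]
    exact hcop.mul_dvd_of_dvd_of_dvd (hQcard ▸ Subgroup.card_dvd_of_le le_sup_left)
      (hDcard ▸ Subgroup.card_dvd_of_le le_sup_right)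
  have hmodd : ¬ 2 ∣ m := by have := h.hyp.two_dvd_k; omega
  have hDR : ∀ x ∈ D, x ≠ 1 → ¬ R0 K x := fun x hx _ hR => hn (by
    have e : r ∣ m := by rw [← hr x hR, ← hDcard]; exact orderOf_dvd_natCard D hx
    rw [hm, Nat.add_sub_cancel]
    exact dvd_mul_of_dvd_right e _)
  have hstruct : D = ⊥ ∨ ∃ x u, Outside K x ∧ orderOf u = 2 ∧ u * x * u = x⁻¹ ∧
      D = centralizer ({x} : Set G) := by
    by_cases hD1 : D = ⊥
    · exact Or.inl hD1
    right
    have hm2 : m ≠ 1 := fun e => hD1 (Subgroup.eq_bot_of_card_eq D (hDcard.trans e))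
    obtain ⟨p, hp, hpd⟩ := Nat.exists_prime_and_dvd hm2
    haveI := Fact.mk hp
    haveI : Subsingleton (Sylow p D) := h.subsingleton_sylow D (hDcard ▸ hmodd) p fun x hx _ hR =>
      hDR x hx hR.1.ne_one hR
    obtain ⟨S⟩ : Nonempty (Sylow p D) := inferInstance
    haveI : Nontrivial (S : Subgroup D) := by
      rw [Subgroup.nontrivial_iff_ne_bot]
      exact S.ne_bot_of_dvd_card (hDcard ▸ hpd)
    haveI := S.isPGroup'.center_nontrivial
    obtain ⟨w, hw⟩ := exists_ne (1 : center (S : Subgroup D))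
    obtain ⟨x, hx⟩ : ∃ x : D, x = ((w : (S : Subgroup D)) : D) := ⟨_, rfl⟩
    have hx1 : (x : G) ≠ 1 := fun e => hw (Subtype.ext (Subtype.ext (hx ▸ Subtype.ext e)))
    have hxS : x ∈ (S : Subgroup D) := hx ▸ (w : (S : Subgroup D)).2
    have hxm : orderOf (x : G) ∣ m := hDcard ▸ orderOf_dvd_natCard D x.2
    have hxo : Outside K (x : G) := by
      intro g hg
      have h1 : orderOf (g⁻¹ * (x : G) * g) ∣ m + 1 := hm ▸ orderOf_dvd_natCard K hg
      have h2 : orderOf (g⁻¹ * (x : G) * g) = orderOf (x : G) := by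
        simpa using Invol.orderOf_conj g⁻¹ (x : G)
      rw [h2] at h1
      refine hx1 (orderOf_eq_one_iff.1 (Nat.eq_one_of_dvd_one ((Nat.dvd_add_right hxm).1 h1)))
    have hc : cnt (x : G) ≠ 0 := fun e => hDR _ x.2 hx1 ⟨hxo, e⟩
    obtain ⟨u, hu, hiu⟩ := Hyp.exists_inverting hc
    have hA : Nat.card (centralizer ({(x : G)} : Set G)) = m := by
      rw [← h.hyp.cnt_eq_card hxo hu hiu, (h.val _ hxo).resolve_left hc, hm, Nat.add_sub_cancel]
    refine ⟨x, u, hxo, hu, hiu, Subgroup.eq_of_le_of_card_ge (fun n hn' => ?_) ?_⟩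
    · refine (h.abelian_ti hx1 (odd_orderOf_of_odd_card (hDcard ▸ hmodd) x.2)
        (hDR _ x.2 hx1)).2 n (odd_orderOf_of_odd_card (hDcard ▸ hmodd) hn') ?_
      have hnS : (⟨n, hn'⟩ : D) * x * (⟨n, hn'⟩ : D)⁻¹ ∈ (S : Subgroup D) :=
        (Sylow.normal_of_subsingleton S).conj_mem _ hxS _
      rw [Subgroup.mem_centralizer_singleton_iff, hx]
      have := congrArg (fun v : (S : Subgroup D) => ((v : D) : G))
        (Subgroup.mem_center_iff.1 w.2 ⟨_, hnS⟩)
      simp only [Subgroup.coe_mul, Subgroup.coe_inv] at this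
      rw [hx] at this
      simpa [mul_assoc] using this
    · rw [hA, hDcard]
  refine ⟨Q, D, ?_, hQc, ?_, by rw [hDcard, hQcard], hQD, hN ▸ hsup.symm, ?_⟩
  · rw [h.card_G_eq, hQcard, hm, show 2 * (m + 1) - 1 = 2 * m + 1 by omega, Nat.add_sub_cancel,
      Nat.add_sub_cancel]
    ring
  · refine ⟨⟨fun a b => Subtype.ext ?_⟩⟩
    rcases hstruct with e | ⟨x, u, hxo, hu, hiu, e⟩
    · have ha : (a : G) = 1 := Subgroup.mem_bot.1 (e ▸ a.2)
      show (a : G) * b = b * a
      rw [ha, one_mul, mul_one]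
    · exact h.hyp.real_comm hxo hu hiu (e ▸ a.2) (e ▸ b.2)
  · intro X hX hX0
    obtain ⟨x, u, hxo, hu, hiu, e⟩ := hstruct.resolve_left fun e => hX0 (le_bot_iff.1 (e ▸ hX))
    obtain ⟨huN, l, hl, hlk, h2l, hla⟩ := h.hyp.real_normalizer hxo hu hiu
    rw [← e] at huN hl hla
    have hl2 : l = 2 := by
      rw [hDcard] at hla
      refine Nat.dvd_antisymm ?_ h2l
      have := Nat.dvd_sub hlk hla
      rwa [hm, show m + 1 - (m - 1) = 2 by omega] at this
    subst hl2
    have hinvD : ∀ d ∈ D, u * d * u⁻¹ = d⁻¹ := fun d hd => by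
      rw [Invol.inv_eq hu]; exact h.hyp.real_inverted hxo hu hiu (e ▸ hd)
    have huD : u ∉ D := fun hud => hmodd (by
      rw [← hu, ← hDcard]; exact orderOf_dvd_natCard D hud)
    have hND : normalizer (D : Set G) = D ⊔ zpowers u := by
      refine (Subgroup.eq_of_le_of_card_ge (sup_le Subgroup.le_normalizer (zpowers_le.2 huN)) ?_).symm
      rw [hl]
      refine Nat.le_of_dvd Nat.card_pos ?_
      refine Nat.Coprime.mul_dvd_of_dvd_of_dvd ?_ (Subgroup.card_dvd_of_le le_sup_left) ?_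
      · rw [hDcard]
        exact ((Nat.Prime.coprime_iff_not_dvd Nat.prime_two).2 hmodd).symm
      · rw [← hu]
        exact orderOf_dvd_natCard _ (mem_sup_right (mem_zpowers u))
    refine ⟨?_, u, hu, huD, hinvD, hND⟩
    obtain ⟨z, hz, hz1⟩ := X.bot_or_exists_ne_one.resolve_left hX0
    refine le_antisymm (fun g hg => ?_) ?_
    · rw [e]
      exact h.hyp.real_ti hxo hu hiu g z (e ▸ hX hz) hz1
        (e ▸ hX (((Subgroup.mem_normalizer_iff.1 hg) z).1 hz))
    · rw [hND, sup_le_iff, zpowers_le]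
      constructor
      · intro d hd
        have hc : ∀ v ∈ X, d * v * d⁻¹ = v := fun v hv => by
          rw [h.hyp.real_comm hxo hu hiu (a := d) (b := v) (e ▸ hd) (e ▸ hX hv), mul_inv_cancel_right]
        rw [Subgroup.mem_normalizer_iff]
        intro v
        refine ⟨fun hv => (hc v hv).symm ▸ hv, fun hv => ?_⟩
        have hv' := hc _ hv
        have e2 : d * v * d⁻¹ = v := by
          have := congrArg (fun w => d⁻¹ * w * d) hv'
          simpa [mul_assoc] using this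
        exact e2 ▸ hv
      · rw [Subgroup.mem_normalizer_iff]
        intro v
        refine ⟨fun hv => (hinvD v (hX hv)).symm ▸ X.inv_mem hv, fun hv => ?_⟩
        have h1 := hinvD _ (hX hv)
        have h2 : v = (u * v * u⁻¹)⁻¹ := by
          rw [← h1]; simp [mul_assoc, Invol.inv_eq hu, Invol.mul_self_cancel hu, Invol.inv_mul_self hu]
        exact h2 ▸ X.inv_mem hv

end AHyp

end Cfsg.Agent.BSWall
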