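import Cfsg.Agent.BSWall.Real

/-!
# The case `|G| = q(q+1)(q-1)/2` with `q = 2|K| + 1`
-/

set_option autoImplicit false

namespace Cfsg.Agent.BSWall

open Subgroup

variable {G : Type*} [Group G]

/-- The conclusion of the Brauer–Suzuki–Wall theorem. -/
def Concl (Q D : Subgroup G) : Prop :=
  2 * Nat.card G = Nat.card ↥Q * (Nat.card ↥Q + 1) * (Nat.card ↥Q - 1) ∧
    (∀ x ∈ Q, x ≠ 1 → centralizer ({x} : Set G) = Q) ∧
    IsMulCommutative ↥D ∧ 2 * Nat.card ↥D + 1 = Nat.card ↥Q ∧ Q ⊓ D = ⊥ ∧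
    normalizer (Q : Set G) = Q ⊔ D ∧
    ∀ X : Subgroup G, X ≤ D → X ≠ ⊥ →
      normalizer (X : Set G) = normalizer (D : Set G) ∧
      ∃ u : G, orderOf u = 2 ∧ u ∉ D ∧ (∀ d ∈ D, u * d * u⁻¹ = d⁻¹) ∧
        normalizer (D : Set G) = D ⊔ zpowers u

namespace Hyp

variable {t s : G} {K : Subgroup G} (h : Hyp t K s)
include h

theorem normalizer_le_K {X : Subgroup G} (hX : X ≤ K) (hX0 : X ≠ ⊥) :
    normalizer (X : Set G) = centralizer ({t} : Set G) := by
  obtain ⟨x, hx, hx1⟩ := X.bot_or_exists_ne_one.resolve_left hX0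
  refine le_antisymm (fun g hg => ?_) fun g hg => ?_
  · exact h.mem_H_of_conj (hX hx) hx1 (hX (((Subgroup.mem_normalizer_iff.1 hg) x).1 hx))
  · have key : ∀ c ∈ centralizer ({t} : Set G), ∀ z ∈ X, c * z * c⁻¹ ∈ X := by
      intro c hc z hz
      by_cases hcK : c ∈ K
      · rw [h.comm c hcK z (hX hz), mul_inv_cancel_right]; exact hz
      · rw [h.inverts hc hcK (hX hz)]; exact X.inv_mem hz
    rw [Subgroup.mem_normalizer_iff]
    intro z
    refine ⟨key g hg z, fun hz => ?_⟩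
    have := key g⁻¹ (inv_mem hg) _ hz
    simpa [mul_assoc] using this

theorem caseB [Finite G] (hI : nInv G = (2 * Nat.card K + 1) * (Nat.card K + 1))
    (hcnt : Nat.card {y : G // Outside K y ∧ cnt y = 2 * Nat.card K + 1} =
      (2 * Nat.card K + 1) ^ 2 - 1) :
    ∃ Q D : Subgroup G, Concl Q D := by
  obtain ⟨q, hq⟩ : ∃ q, q = 2 * Nat.card K + 1 := ⟨_, rfl⟩
  have hk := Nat.card_pos (α := K)
  rw [← hq] at hI hcnt
  have hpos : Nat.card {y : G // Outside K y ∧ cnt y = q} ≠ 0 := by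
    rw [hcnt]
    have h3 : 9 ≤ q ^ 2 := Nat.pow_le_pow_left (show 3 ≤ q by omega) 2
    omega
  obtain ⟨⟨z, hz, hzc⟩⟩ := (Nat.card_ne_zero.1 hpos).1
  obtain ⟨u, hu, hiu⟩ := exists_inverting (y := z) (by omega)
  obtain ⟨g, hg⟩ := h.exists_conj_t hu
  obtain ⟨y, hydef⟩ : ∃ y, y = g⁻¹ * z * g := ⟨_, rfl⟩
  have hy : Outside K y := by rw [hydef]; simpa using outside_conj hz g⁻¹
  have hiy : t * y * t = y⁻¹ := by
    rw [hydef]
    have := congrArg (fun w => g⁻¹ * w * g) hiu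
    rw [← hg] at this
    simpa [mul_assoc] using this
  have hyc : cnt y = q := by
    rw [hydef, show g⁻¹ * z * g = g⁻¹ * z * (g⁻¹)⁻¹ by rw [inv_inv], cnt_conj, hzc]
  have hA : Nat.card (centralizer ({y} : Set G)) = q := by rw [← h.cnt_eq_card hy h.ht hiy, hyc]
  obtain ⟨-, L, hLK, -, hsup, hcard, -⟩ := h.normalizer_real hy hiy
  have hF := h.card_family hy h.ht hiy hcard
  have hle : Nat.card {w : G // IntoConj (centralizer ({y} : Set G)) w} ≤ q ^ 2 - 1 := by
    rw [← hcnt]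
    exact Nat.card_le_card_of_injective
      (fun w => ⟨w.1, (h.of_intoConj_centralizer hy h.ht hiy w.2).1,
        (h.of_intoConj_centralizer hy h.ht hiy w.2).2.trans hA⟩)
      fun a b e => Subtype.ext (congrArg (fun w => w.1) e :)
  rw [hA, h.card_G, hI] at hF
  have hLk : Nat.card L ≤ Nat.card K := Nat.le_of_dvd Nat.card_pos (Subgroup.card_dvd_of_le hLK)
  have hkL : Nat.card K ≤ Nat.card L := by
    have h1 : Nat.card {w : G // IntoConj (centralizer ({y} : Set G)) w} + 1 ≤ q * q := by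
      have : 1 ≤ q ^ 2 := Nat.one_le_pow _ _ (by omega)
      rw [← pow_two]; omega
    by_contra hlt
    have h2 : Nat.card L + 1 ≤ Nat.card K := by omega
    subst hq
    have h1' : Nat.card {w : G // IntoConj (centralizer ({y} : Set G)) w} ≤
        4 * Nat.card K * (Nat.card K + 1) := by linarith
    have h3 := Nat.mul_le_mul_right ((2 * Nat.card K + 1) * Nat.card L) h1'
    have h4 := Nat.mul_le_mul_left (4 * Nat.card K * (Nat.card K + 1) * (2 * Nat.card K + 1)) h2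
    have h5 : 0 < Nat.card K * (Nat.card K + 1) * (2 * Nat.card K + 1) := by positivity
    linarith
  have hLeq : L = K := Subgroup.eq_of_le_of_card_ge hLK hkL
  subst hLeq
  refine ⟨centralizer ({y} : Set G), L, ?_, fun x hx hx1 => h.real_centralizer_eq hy h.ht hiy hx hx1,
    ⟨⟨fun a b => Subtype.ext (h.comm _ a.2 _ b.2)⟩⟩, by rw [hA, hq], ?_, hsup.symm, ?_⟩
  · rw [hA, h.card_G, hI, hq]
    simp only [Nat.add_sub_cancel]
    ring
  · rw [eq_bot_iff]
    rintro x ⟨hxA, hxK⟩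
    by_contra hx1
    exact h.real_outside hy h.ht hiy hxA (fun e => hx1 (Subgroup.mem_bot.2 e)) 1 (by simpa using hxK)
  · intro X hX hX0
    have hL0 : L ≠ ⊥ := fun e => Invol.inv_ne_one h.ht (Subgroup.mem_bot.1 (e ▸ h.tK))
    rw [h.normalizer_le_K hX hX0, h.normalizer_le_K le_rfl hL0]
    exact ⟨rfl, s, h.hs, h.sK, h.inv, h.gen.symm⟩

end Hyp

end Cfsg.Agent.BSWall
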