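import Cfsg.Agent.BSWall.Combin
import Mathlib.Analysis.Complex.Basic
import Mathlib.Tactic.FieldSimp
import Mathlib.Tactic.LinearCombination

/-!
# The exceptional constituents: integer combinatorics
-/

set_option autoImplicit false

namespace Cfsg.Agent.BSWall

variable {M : Type*} [CommGroup M] [Fintype M] [DecidableEq M]
variable {ι : Type*} [Fintype ι] [DecidableEq ι]

/-- The coordinates of the induced class functions (`a`), the values of the linear characters at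
the involution (`sg`), degrees (`d`) and values at the involution (`T`) of the irreducible
characters. -/
structure CoreHyp (o : ι) (d T : ι → ℤ) (a : M → ι → ℤ) (sg : M → ℤ) (μ₀ : M) (c : ℂ) : Prop where
  pos : ∀ x, 0 < d x
  degO : d o = 1
  valO : T o = 1
  coefO : ∀ μ, μ ≠ 1 → a μ o = 1
  coefOne : ∀ x, a 1 x = 0
  par : ∀ μ ν, μ ≠ 1 → ν ≠ 1 →
    ∑ x, a μ x * a ν x = 2 + (if μ = ν then 1 else 0) + (if μ * ν = 1 then 1 else 0)
  deg : ∀ μ, ∑ x, a μ x * d x = 0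
  val : ∀ x, T x = -∑ μ, a μ x * sg μ
  sumSg : ∑ μ, sg μ = 0
  sgOne : sg 1 = 1
  sgSign : ∀ μ, sg μ = 1 ∨ sg μ = -1
  sgInv : ∀ μ, sg μ⁻¹ = sg μ
  neOne : μ₀ ≠ 1
  sqOne : μ₀ * μ₀ = 1
  unique : ∀ μ, μ * μ = 1 → μ = 1 ∨ μ = μ₀
  order : ∀ μ, μ ≠ 1 → ∑ x, (T x : ℂ) * (T x : ℂ) * (a μ x : ℂ) / (d x : ℂ) = c

/-- The coordinates with the trivial character removed. -/
def coef' (o : ι) (a : M → ι → ℤ) (μ : M) (x : ι) : ℤ := if x = o then 0 else a μ x

omit [Fintype ι] in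
theorem coef'_of_ne {o : ι} {a : M → ι → ℤ} {μ : M} {x : ι} (h : x ≠ o) :
    coef' o a μ x = a μ x := if_neg h

omit [Fintype ι] in
theorem coef'_self {o : ι} {a : M → ι → ℤ} {μ : M} : coef' o a μ o = 0 := if_pos rfl

/-- `φ` is the constituent shared with the character attached to `μ₀`, `ψ` the other one. -/
structure Split (o : ι) (d : ι → ℤ) (a : M → ι → ℤ) (μ₀ μ : M) (φ ψ : ι) : Prop where
  ne : φ ≠ ψ
  sp : coef' o a μ φ * coef' o a μ φ = 1
  sq : coef' o a μ ψ * coef' o a μ ψ = 1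
  zp : coef' o a μ₀ φ = coef' o a μ φ
  zq : coef' o a μ₀ ψ = 0
  zero : ∀ x, x ≠ φ → x ≠ ψ → coef' o a μ x = 0
  neP : φ ≠ o
  neQ : ψ ≠ o
  deg : coef' o a μ φ * d φ + coef' o a μ ψ * d ψ = -1

/-- Division-free form of `t * t * B / D` for a sign `B`. -/
theorem term_eq {t B D E : ℤ} (hB : B * B = 1) (hD : D ≠ 0) (hE : B * D = E) :
    (t : ℂ) * (t : ℂ) * (B : ℂ) / (D : ℂ) = ((t * t : ℤ) : ℂ) / (E : ℂ) := by
  subst hE
  have hB' : (B : ℂ) * (B : ℂ) = 1 := by exact_mod_cast hB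
  have hD' : (D : ℂ) ≠ 0 := Int.cast_ne_zero.2 hD
  have hB0 : (B : ℂ) ≠ 0 := fun e => by rw [e] at hB'; simp at hB'
  push_cast
  field_simp
  linear_combination (t : ℂ) ^ 2 * hB'

namespace CoreHyp

variable {o : ι} {d T : ι → ℤ} {a : M → ι → ℤ} {sg : M → ℤ} {μ₀ : M} {c : ℂ}
variable (H : CoreHyp o d T a sg μ₀ c)
include H

local notation "b" => coef' o a

theorem bsum (μ : M) (w : ι → ℤ) (hμ : μ ≠ 1) : ∑ x, a μ x * w x = w o + ∑ x, b μ x * w x := by
  rw [← Finset.add_sum_erase _ _ (Finset.mem_univ o), H.coefO μ hμ, one_mul,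
    ← Finset.add_sum_erase _ (fun x => coef' o a μ x * w x) (Finset.mem_univ o)]
  simp only [coef'_self, zero_mul, zero_add, add_right_inj]
  exact Finset.sum_congr rfl fun x hx => by rw [coef'_of_ne (Finset.ne_of_mem_erase hx)]

theorem bpar (μ ν : M) (hμ : μ ≠ 1) (hν : ν ≠ 1) :
    ∑ x, b μ x * b ν x = 1 + (if μ = ν then 1 else 0) + (if μ * ν = 1 then 1 else 0) := by
  have h1 := H.bsum μ (a ν) hμ
  rw [H.par μ ν hμ hν, H.coefO ν hν] at h1
  have h2 : ∑ x, b μ x * b ν x = ∑ x, b μ x * a ν x := Finset.sum_congr rfl fun x _ => by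
    unfold coef'; split_ifs <;> simp
  linarith

theorem bdeg (μ : M) (hμ : μ ≠ 1) : ∑ x, b μ x * d x = -1 := by
  have h1 := H.bsum μ d hμ
  rw [H.deg μ, H.degO] at h1
  linarith

omit H in
theorem ne_one_of_sq {μ : M} (hμ : μ * μ ≠ 1) : μ ≠ 1 := fun e => hμ (by rw [e, mul_one])

omit H in
theorem inv_sq_ne {μ : M} (hμ : μ * μ ≠ 1) : μ⁻¹ * μ⁻¹ ≠ 1 := fun e => hμ (by
  have := congrArg (·⁻¹) e; simpa using this)

omit H in
theorem ne_inv_of_sq {μ : M} (hμ : μ * μ ≠ 1) : μ ≠ μ⁻¹ := fun e => hμ (by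
  nth_rw 1 [e]; exact inv_mul_cancel μ)

theorem ne_mu0 {μ : M} (hμ : μ * μ ≠ 1) : μ ≠ μ₀ := fun e => hμ (by rw [e, H.sqOne])

theorem norm0 : ∑ x, b μ₀ x * b μ₀ x = 3 := by
  rw [H.bpar μ₀ μ₀ H.neOne H.neOne, if_pos rfl, if_pos H.sqOne]; norm_num

theorem norm2 {μ : M} (hμ : μ * μ ≠ 1) : ∑ x, b μ x * b μ x = 2 := by
  rw [H.bpar μ μ (ne_one_of_sq hμ) (ne_one_of_sq hμ), if_pos rfl, if_neg hμ]; norm_num

theorem inner1 {μ : M} (hμ : μ * μ ≠ 1) : ∑ x, b μ x * b μ₀ x = 1 := by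
  rw [H.bpar μ μ₀ (ne_one_of_sq hμ) H.neOne, if_neg (H.ne_mu0 hμ), if_neg]
  · norm_num
  · intro e
    refine H.ne_mu0 hμ ?_
    rw [mul_eq_one_iff_eq_inv.1 e, inv_eq_iff_mul_eq_one, H.sqOne]

theorem inner_unrel {μ ν : M} (hμ : μ * μ ≠ 1) (hν : ν * ν ≠ 1) (h1 : μ ≠ ν) (h2 : μ * ν ≠ 1) :
    ∑ x, b μ x * b ν x = 1 := by
  rw [H.bpar μ ν (ne_one_of_sq hμ) (ne_one_of_sq hν), if_neg h1, if_neg h2]; norm_num

theorem binv {μ : M} (hμ : μ * μ ≠ 1) : b μ⁻¹ = b μ := by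
  refine (eq_of_norm_sub (H.norm2 hμ) (H.norm2 (inv_sq_ne hμ)) ?_).symm
  rw [H.bpar μ μ⁻¹ (ne_one_of_sq hμ) (ne_one_of_sq (inv_sq_ne hμ)), if_neg (ne_inv_of_sq hμ),
    if_pos (mul_inv_cancel μ)]
  norm_num

theorem exists_split {μ : M} (hμ : μ * μ ≠ 1) : ∃ φ ψ, Split o d a μ₀ μ φ ψ := by
  obtain ⟨p, q, h1, h2, h3, h4, h5, h6⟩ := pair_split (H.norm2 hμ) H.norm0.le (H.inner1 hμ)
  refine ⟨p, q, ⟨h1, h2, h3, h4, h5, h6, fun e => ?_, fun e => ?_, ?_⟩⟩
  · rw [e, coef'_self] at h2; simp at h2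
  · rw [e, coef'_self] at h3; simp at h3
  · rw [← inner_pair p q h1 h6 d, H.bdeg μ (ne_one_of_sq hμ)]

omit H in
theorem phi_ne_psi {μ ν : M} {φ ψ φ' ψ' : ι} (h : Split o d a μ₀ μ φ ψ)
    (h' : Split o d a μ₀ ν φ' ψ') : φ ≠ ψ' := fun e => by
  have := h.sp
  rw [← h.zp, e, h'.zq] at this
  simp at this

theorem cross {μ ν : M} (hμ : μ * μ ≠ 1) (hν : ν * ν ≠ 1) {φ ψ φ' ψ' : ι}
    (h : Split o d a μ₀ μ φ ψ) (h' : Split o d a μ₀ ν φ' ψ') (hne : φ ≠ φ') :
    μ ≠ ν ∧ μ * ν ≠ 1 ∧ ψ = ψ' ∧ b ν ψ = b μ ψ ∧ b μ φ * d φ = b ν φ' * d φ' := by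
  have hb : b μ ≠ b ν := fun e => by
    have h0 := h'.zero φ hne (phi_ne_psi h h')
    rw [← e] at h0
    have := h.sp
    rw [h0] at this; simp at this
  have h1 : μ ≠ ν := fun e => hb (by rw [e])
  have h2 : μ * ν ≠ 1 := fun e => hb (by rw [eq_inv_of_mul_eq_one_right e, H.binv hμ])
  have e1 := H.inner_unrel hμ hν h1 h2
  rw [inner_pair φ ψ h.ne h.zero, h'.zero φ hne (phi_ne_psi h h'), mul_zero, zero_add] at e1
  have hψ : ψ = ψ' := by
    by_contra hψ
    rw [h'.zero ψ (Ne.symm (phi_ne_psi h' h)) hψ, mul_zero] at e1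
    simp at e1
  have hbb : b ν ψ = b μ ψ := by
    calc b ν ψ = (b μ ψ * b μ ψ) * b ν ψ := by rw [h.sq, one_mul]
      _ = b μ ψ * (b μ ψ * b ν ψ) := mul_assoc _ _ _
      _ = b μ ψ := by rw [e1, mul_one]
  refine ⟨h1, h2, hψ, hbb, ?_⟩
  have := h'.deg
  rw [← hψ, hbb] at this
  linarith [h.deg]

theorem related {μ ν ρ : M} (hμ : μ * μ ≠ 1) (hν : ν * ν ≠ 1) (hρ : ρ * ρ ≠ 1) {φ ψ φ' ψ' ψ'' : ι}
    (h : Split o d a μ₀ μ φ ψ) (h' : Split o d a μ₀ ν φ' ψ') (h'' : Split o d a μ₀ ρ φ ψ'')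
    (hne : φ ≠ φ') : ρ = μ ∨ ρ = μ⁻¹ := by
  by_contra! hc
  obtain ⟨-, -, e1, e2, -⟩ := H.cross hμ hν h h' hne
  obtain ⟨-, -, e3, e4, -⟩ := H.cross hρ hν h'' h' hne
  have h1 := H.inner_unrel hρ hμ hc.1 (fun e => hc.2 (eq_inv_of_mul_eq_one_left e))
  rw [inner_pair φ ψ'' h''.ne h''.zero, ← h''.zp, h.zp, h.sp] at h1
  have hee : ψ'' = ψ := e3.trans e1.symm
  subst hee
  rw [← e4, e2, h.sq] at h1
  simp at h1

theorem orderEq {μ : M} (hμ : μ * μ ≠ 1) {φ ψ : ι} (h : Split o d a μ₀ μ φ ψ) {D E : ℤ}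
    (hD : b μ φ * d φ = D) (hE : b μ ψ * d ψ = E) :
    c = 1 + ((T φ * T φ : ℤ) : ℂ) / (D : ℂ) + ((T ψ * T ψ : ℤ) : ℂ) / (E : ℂ) := by
  rw [← H.order μ (ne_one_of_sq hμ), ← Finset.sum_subset (Finset.subset_univ ({o, φ, ψ} : Finset ι))
    (fun x _ hx => by
      simp only [Finset.mem_insert, Finset.mem_singleton, not_or] at hx
      rw [← coef'_of_ne (a := a) (μ := μ) hx.1, h.zero x hx.2.1 hx.2.2]; simp),
    Finset.sum_insert (by simp [Ne.symm h.neP, Ne.symm h.neQ]), Finset.sum_pair h.ne,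
    H.coefO μ (ne_one_of_sq hμ), H.valO, H.degO, ← coef'_of_ne (a := a) (μ := μ) h.neP,
    ← coef'_of_ne (a := a) (μ := μ) h.neQ, term_eq h.sp (H.pos φ).ne' hD,
    term_eq h.sq (H.pos ψ).ne' hE]
  simp only [Int.cast_one, mul_one, div_one]
  ring

/-- All the shared constituents are equal. -/
theorem same {μ ν : M} (hμ : μ * μ ≠ 1) (hν : ν * ν ≠ 1) {φ ψ φ' ψ' : ι}
    (h : Split o d a μ₀ μ φ ψ) (h' : Split o d a μ₀ ν φ' ψ') : φ = φ' := by
  by_contra hne
  obtain ⟨h1, h2, hψ, hbb, hD⟩ := H.cross hμ hν h h' hne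
  by_cases hthird : ∃ ρ φ'' ψ'', ρ * ρ ≠ 1 ∧ Split o d a μ₀ ρ φ'' ψ'' ∧ φ'' ≠ φ ∧ φ'' ≠ φ'
  · obtain ⟨ρ, φ'', ψ'', hρ, h'', n1, n2⟩ := hthird
    obtain ⟨-, -, -, -, hD'⟩ := H.cross hμ hρ h h'' (Ne.symm n1)
    have hcard := card_support (c := b μ₀) H.norm0.le
    rw [H.norm0] at hcard
    have hsub : ({φ, φ', φ''} : Finset ι) = ({x | b μ₀ x ≠ 0} : Finset ι) := by
      refine Finset.eq_of_subset_of_card_le ?_ ?_
      · intro x hx
        simp only [Finset.mem_insert, Finset.mem_singleton] at hx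
        simp only [Finset.mem_filter, Finset.mem_univ, true_and]
        rcases hx with rfl | rfl | rfl <;> intro e0
        · have := h.sp; rw [← h.zp, e0] at this; simp at this
        · have := h'.sp; rw [← h'.zp, e0] at this; simp at this
        · have := h''.sp; rw [← h''.zp, e0] at this; simp at this
      · rw [show ({x | b μ₀ x ≠ 0} : Finset ι).card = 3 by exact_mod_cast hcard,
          Finset.card_insert_of_notMem (by simp [hne, Ne.symm n1]),
          Finset.card_insert_of_notMem (by simp [Ne.symm n2]), Finset.card_singleton]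
    have e := H.bdeg μ₀ H.neOne
    rw [← Finset.sum_subset (Finset.subset_univ ({φ, φ', φ''} : Finset ι)) (fun x _ hx => by
        rw [hsub] at hx
        simp only [Finset.mem_filter, Finset.mem_univ, true_and, ne_eq, not_not] at hx
        rw [hx, zero_mul]),
      Finset.sum_insert (by simp [hne, Ne.symm n1]), Finset.sum_insert (by simp [Ne.symm n2]),
      Finset.sum_singleton, h.zp, h'.zp, h''.zp, ← hD, ← hD'] at e
    omega
  · push Not at hthird
    have huniv : (Finset.univ : Finset M) = {1, μ₀, μ, μ⁻¹, ν, ν⁻¹} := by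
      refine (Finset.eq_univ_of_forall fun ρ => ?_).symm
      simp only [Finset.mem_insert, Finset.mem_singleton]
      by_cases hρ : ρ * ρ = 1
      · rcases H.unique ρ hρ with e | e <;> simp [e]
      · obtain ⟨φ'', ψ'', h''⟩ := H.exists_split hρ
        by_cases e : φ'' = φ
        · subst e
          rcases H.related hμ hν hρ h h' h'' hne with e | e <;> simp [e]
        · have e' := hthird ρ φ'' ψ'' hρ h'' e
          subst e'
          rcases H.related hν hμ hρ h' h h'' e with e | e <;> simp [e]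
    have hexp : ∀ w : M → ℤ, ∑ ρ, w ρ = w 1 + w μ₀ + w μ + w μ⁻¹ + w ν + w ν⁻¹ := by
      intro w
      have a1 := ne_one_of_sq hμ
      have a2 := ne_one_of_sq hν
      have a3 := H.ne_mu0 hμ
      have a4 := H.ne_mu0 hν
      have a5 := ne_one_of_sq (inv_sq_ne hμ)
      have a6 := ne_one_of_sq (inv_sq_ne hν)
      have a7 := H.ne_mu0 (inv_sq_ne hμ)
      have a8 := H.ne_mu0 (inv_sq_ne hν)
      have a9 : μ ≠ ν⁻¹ := fun e => h2 (by rw [e, inv_mul_cancel])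
      have a10 : μ⁻¹ ≠ ν := fun e => h2 (by rw [← e, mul_inv_cancel])
      have a11 : μ⁻¹ ≠ ν⁻¹ := fun e => h1 (inv_injective e)
      rw [huniv,
        Finset.sum_insert (by simp [Ne.symm H.neOne, Ne.symm a1, Ne.symm a5, Ne.symm a2, Ne.symm a6]),
        Finset.sum_insert (by simp [Ne.symm a3, Ne.symm a7, Ne.symm a4, Ne.symm a8]),
        Finset.sum_insert (by simp [ne_inv_of_sq hμ, h1, a9]), Finset.sum_insert (by simp [a10, a11]),
        Finset.sum_insert (by simp [ne_inv_of_sq hν]), Finset.sum_singleton]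
      ring
    have hs0 := hexp sg
    rw [H.sumSg, H.sgOne, H.sgInv, H.sgInv] at hs0
    have v1 : T φ = -(b μ φ * (sg μ₀ + 2 * sg μ)) := by
      rw [H.val, hexp, H.coefOne, ← coef'_of_ne (a := a) h.neP, ← coef'_of_ne (a := a) h.neP,
        ← coef'_of_ne (a := a) h.neP, ← coef'_of_ne (a := a) h.neP, ← coef'_of_ne (a := a) h.neP,
        H.binv hμ, H.binv hν, H.sgInv, H.sgInv, h'.zero φ hne (phi_ne_psi h h'), h.zp]
      ring
    have v2 : T φ' = -(b ν φ' * (sg μ₀ + 2 * sg ν)) := by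
      rw [H.val, hexp, H.coefOne, ← coef'_of_ne (a := a) h'.neP, ← coef'_of_ne (a := a) h'.neP,
        ← coef'_of_ne (a := a) h'.neP, ← coef'_of_ne (a := a) h'.neP, ← coef'_of_ne (a := a) h'.neP,
        H.binv hμ, H.binv hν, H.sgInv, H.sgInv, h.zero φ' (Ne.symm hne) (phi_ne_psi h' h), h'.zp]
      ring
    have e1 := H.orderEq hμ h rfl rfl
    have e2 := H.orderEq hν h' hD.symm rfl
    rw [← hψ, hbb] at e2
    rw [e1] at e2
    have hD0 : ((b μ φ * d φ : ℤ) : ℂ) ≠ 0 :=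
      Int.cast_ne_zero.2 (mul_ne_zero (fun e => by
        have := h.sp; rw [e] at this; simp at this) (H.pos φ).ne')
    have e3 : T φ * T φ = T φ' * T φ' := by
      have := (div_left_inj' hD0).1 (by linear_combination e2 : ((T φ * T φ : ℤ) : ℂ) /
        ((b μ φ * d φ : ℤ) : ℂ) = ((T φ' * T φ' : ℤ) : ℂ) / ((b μ φ * d φ : ℤ) : ℂ))
      exact_mod_cast this
    have e4 : (sg μ₀ + 2 * sg μ) * (sg μ₀ + 2 * sg μ) = (sg μ₀ + 2 * sg ν) * (sg μ₀ + 2 * sg ν) := by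
      rw [v1, v2] at e3
      linear_combination e3 - (sg μ₀ + 2 * sg μ) * (sg μ₀ + 2 * sg μ) * h.sp
        + (sg μ₀ + 2 * sg ν) * (sg μ₀ + 2 * sg ν) * h'.sp
    rcases H.sgSign μ₀ with e | e <;> rcases H.sgSign μ with e' | e' <;>
      rcases H.sgSign ν with e'' | e'' <;> rw [e, e', e''] at e4 <;> omega

/-- The conclusions. -/
theorem main {lam : M} (hlam : lam * lam ≠ 1) :
    ∃ f δ, f ≠ o ∧ δ * δ = 1 ∧ (∀ μ, μ ≠ 1 → a μ f = δ) ∧ T f = δ ∧
      δ * d f ≠ 0 ∧ 1 + δ * d f ≠ 0 ∧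
      c = 1 + 1 / ((δ * d f : ℤ) : ℂ) + 4 / ((-(1 + δ * d f) : ℤ) : ℂ) ∧
      ∀ x, x ≠ o → x ≠ f → ∀ μ, μ ≠ 1 → a μ x ≠ 0 → (1 + δ * d f) * sg μ * T x = 2 * d x := by
  obtain ⟨f, g, hfg⟩ := H.exists_split hlam
  obtain ⟨δ, hδ⟩ : ∃ δ, δ = b μ₀ f := ⟨_, rfl⟩
  have hδδ : δ * δ = 1 := by rw [hδ, hfg.zp, hfg.sp]
  have hsplit : ∀ μ : M, μ * μ ≠ 1 → ∃ ψ, Split o d a μ₀ μ f ψ := fun μ hμ => by
    obtain ⟨φ', ψ', h'⟩ := H.exists_split hμ
    obtain rfl := H.same hlam hμ hfg h'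
    exact ⟨ψ', h'⟩
  have hcoef : ∀ μ, μ ≠ 1 → a μ f = δ := by
    intro μ hμ
    rw [← coef'_of_ne (a := a) hfg.neP, hδ]
    by_cases hμ2 : μ * μ = 1
    · rw [(H.unique μ hμ2).resolve_left hμ]
    · obtain ⟨ψ, h'⟩ := hsplit μ hμ2; rw [h'.zp]
  have hvalf : T f = δ := by
    rw [H.val]
    have e : ∀ μ, a μ f * sg μ = δ * sg μ - if μ = 1 then δ else 0 := fun μ => by
      by_cases hμ : μ = 1
      · subst hμ; rw [H.coefOne, H.sgOne, if_pos rfl]; ring
      · rw [hcoef μ hμ, if_neg hμ]; ring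
    simp only [e, Finset.sum_sub_distrib, ← Finset.mul_sum, H.sumSg, mul_zero, Finset.sum_ite_eq',
      Finset.mem_univ, if_true]
    ring
  have hother : ∀ (μ ν : M) ψ, μ * μ ≠ 1 → Split o d a μ₀ μ f ψ → ν * ν ≠ 1 → ν ≠ μ → ν ≠ μ⁻¹ →
      b ν ψ = 0 := by
    intro μ ν ψ hμ h hν h1 h2
    have e := H.inner_unrel hμ hν (Ne.symm h1) (fun e => h2 (eq_inv_of_mul_eq_one_right e))
    obtain ⟨ψ', h'⟩ := hsplit ν hν
    rw [inner_pair f ψ h.ne h.zero, ← h.zp, h'.zp, h'.sp] at e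
    refine (mul_eq_zero.1 (show b μ ψ * b ν ψ = 0 by linarith)).resolve_left fun e0 => ?_
    have := h.sq; rw [e0] at this; simp at this
  have hψval : ∀ (μ : M) ψ, μ * μ ≠ 1 → Split o d a μ₀ μ f ψ → T ψ = -(2 * sg μ * b μ ψ) := by
    intro μ ψ hμ h
    rw [H.val]
    congr 1
    rw [← Finset.sum_subset (Finset.subset_univ ({μ, μ⁻¹} : Finset M)) (fun ρ _ hρ => by
      simp only [Finset.mem_insert, Finset.mem_singleton, not_or] at hρ
      by_cases hρ2 : ρ * ρ = 1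
      · rcases H.unique ρ hρ2 with e | e
        · rw [e, H.coefOne, zero_mul]
        · rw [e, ← coef'_of_ne (a := a) h.neQ, h.zq, zero_mul]
      · rw [← coef'_of_ne (a := a) h.neQ, hother μ ρ ψ hμ h hρ2 hρ.1 hρ.2, zero_mul]),
      Finset.sum_pair (ne_inv_of_sq hμ), ← coef'_of_ne (a := a) h.neQ, ← coef'_of_ne (a := a) h.neQ,
      H.binv hμ, H.sgInv]
    ring
  have hE : ∀ (μ : M) ψ, μ * μ ≠ 1 → Split o d a μ₀ μ f ψ → b μ ψ * d ψ = -(1 + δ * d f) := by
    intro μ ψ hμ h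
    have := h.deg
    rw [← h.zp, ← hδ] at this
    linarith
  have hF1 : 1 + δ * d f ≠ 0 := by
    intro e
    have := hE lam g hlam hfg
    rw [e, neg_zero, mul_eq_zero] at this
    rcases this with e0 | e0
    · have := hfg.sq; rw [e0] at this; simp at this
    · exact (H.pos g).ne' e0
  have hF0 : δ * d f ≠ 0 := mul_ne_zero (fun e => by rw [e] at hδδ; simp at hδδ) (H.pos f).ne'
  have hc : c = 1 + 1 / ((δ * d f : ℤ) : ℂ) + 4 / ((-(1 + δ * d f) : ℤ) : ℂ) := by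
    rw [H.orderEq hlam hfg (by rw [← hfg.zp, ← hδ]) (hE lam g hlam hfg), hvalf, hδδ,
      hψval lam g hlam hfg]
    have e : -(2 * sg lam * b lam g) * -(2 * sg lam * b lam g) = 4 := by
      rcases H.sgSign lam with e | e <;> rw [e] <;> linear_combination (4 : ℤ) * hfg.sq
    rw [e]; simp
  refine ⟨f, δ, hfg.neP, hδδ, hcoef, hvalf, hF0, hF1, hc, ?_⟩
  intro x hxo hxf μ hμ hax
  rw [← coef'_of_ne (a := a) hxo] at hax
  have hs : sg μ * sg μ = 1 := by rcases H.sgSign μ with e | e <;> simp [e]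
  by_cases hμ2 : μ * μ = 1
  · obtain rfl := (H.unique μ hμ2).resolve_left hμ
    have hmem : ∀ y, y ≠ o → y ≠ f → b μ y ≠ 0 → T y = -(sg μ * b μ y) := by
      intro y hyo hyf hy
      rw [H.val]
      congr 1
      rw [Finset.sum_eq_single μ]
      · rw [← coef'_of_ne (a := a) hyo]; ring
      · intro ρ _ hρ0
        by_cases hρ2 : ρ * ρ = 1
        · rw [(H.unique ρ hρ2).resolve_right hρ0, H.coefOne, zero_mul]
        · obtain ⟨ψ, h'⟩ := hsplit ρ hρ2
          rw [← coef'_of_ne (a := a) hyo, h'.zero y hyf (fun e => hy (by rw [e]; exact h'.zq)),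
            zero_mul]
      · simp
    have hnf : b μ f ≠ 0 := fun e => by rw [hδ, e] at hδδ; simp at hδδ
    have hcard := card_support (c := b μ) H.norm0.le
    rw [H.norm0] at hcard
    have hcard' : (({y | b μ y ≠ 0} : Finset ι).erase f).card = 2 := by
      rw [Finset.card_erase_of_mem (by simp [hnf]),
        show ({y | b μ y ≠ 0} : Finset ι).card = 3 by exact_mod_cast hcard]
    obtain ⟨p, q, hpq, hset⟩ := Finset.card_eq_two.1 hcard'
    have hp' : p ≠ f ∧ b μ p ≠ 0 := by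
      have : p ∈ ({p, q} : Finset ι) := by simp
      rw [← hset] at this; simpa using this
    have hq' : q ≠ f ∧ b μ q ≠ 0 := by
      have : q ∈ ({p, q} : Finset ι) := by simp
      rw [← hset] at this; simpa using this
    have hpo : p ≠ o := fun e => hp'.2 (e ▸ coef'_self)
    have hqo : q ≠ o := fun e => hq'.2 (e ▸ coef'_self)
    have hothers : ∀ y, y ≠ f → y ≠ p → y ≠ q → b μ y = 0 := by
      intro y h1 h2 h3
      by_contra h4
      have : y ∈ ({p, q} : Finset ι) := hset ▸ (by simp [h1, h4])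
      simp [h2, h3] at this
    have hsm := coeff_small (c := b μ) H.norm0.le
    have sp : b μ p * b μ p = 1 := by
      rcases (hsm p).resolve_left hp'.2 with e | e <;> simp [e]
    have sq : b μ q * b μ q = 1 := by
      rcases (hsm q).resolve_left hq'.2 with e | e <;> simp [e]
    have hU : b μ p * d p + b μ q * d q = -(1 + δ * d f) := by
      have e := H.bdeg μ H.neOne
      rw [← Finset.sum_subset (Finset.subset_univ ({f, p, q} : Finset ι)) (fun y _ hy => by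
          simp only [Finset.mem_insert, Finset.mem_singleton, not_or] at hy
          rw [hothers y hy.1 hy.2.1 hy.2.2, zero_mul]),
        Finset.sum_insert (by simp [Ne.symm hp'.1, Ne.symm hq'.1]), Finset.sum_pair hpq, ← hδ] at e
      linarith
    have hord := H.order μ H.neOne
    rw [← Finset.sum_subset (Finset.subset_univ ({o, f, p, q} : Finset ι)) (fun y _ hy => by
        simp only [Finset.mem_insert, Finset.mem_singleton, not_or] at hy
        rw [← coef'_of_ne (a := a) hy.1, hothers y hy.2.1 hy.2.2.1 hy.2.2.2]; simp),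
      Finset.sum_insert (by simp [Ne.symm hfg.neP, Ne.symm hpo, Ne.symm hqo]),
      Finset.sum_insert (by simp [Ne.symm hp'.1, Ne.symm hq'.1]), Finset.sum_pair hpq,
      H.coefO μ H.neOne, H.valO, H.degO, hcoef μ H.neOne, term_eq hδδ (H.pos f).ne' rfl, hvalf, hδδ,
      ← coef'_of_ne (a := a) hpo, ← coef'_of_ne (a := a) hqo,
      term_eq sp (H.pos p).ne' rfl, term_eq sq (H.pos q).ne' rfl,
      hmem p hpo hp'.1 hp'.2, hmem q hqo hq'.1 hq'.2,
      show -(sg μ * b μ p) * -(sg μ * b μ p) = 1 by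
        linear_combination (b μ p * b μ p) * hs + sp,
      show -(sg μ * b μ q) * -(sg μ * b μ q) = 1 by
        linear_combination (b μ q * b μ q) * hs + sq, hc] at hord
    have hp0 : b μ p * d p ≠ 0 := mul_ne_zero hp'.2 (H.pos p).ne'
    have hq0 : b μ q * d q ≠ 0 := mul_ne_zero hq'.2 (H.pos q).ne'
    have hprod : (1 + δ * d f) * (b μ p * d p + b μ q * d q) =
        -4 * ((b μ p * d p) * (b μ q * d q)) := by
      have g3 : ((1 + δ * d f : ℤ) : ℂ) ≠ 0 := Int.cast_ne_zero.2 hF1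
      have gp : ((b μ p * d p : ℤ) : ℂ) ≠ 0 := Int.cast_ne_zero.2 hp0
      have gq : ((b μ q * d q : ℤ) : ℂ) ≠ 0 := Int.cast_ne_zero.2 hq0
      simp only [Int.cast_one, mul_one, div_one, Int.cast_neg] at hord
      suffices hs : ((1 + δ * d f : ℤ) : ℂ) * (((b μ p * d p : ℤ) : ℂ) + ((b μ q * d q : ℤ) : ℂ)) =
          -4 * (((b μ p * d p : ℤ) : ℂ) * ((b μ q * d q : ℤ) : ℂ)) by exact_mod_cast hs
      generalize ((b μ p * d p : ℤ) : ℂ) = U at hord gp ⊢
      generalize ((b μ q * d q : ℤ) : ℂ) = V at hord gq ⊢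
      generalize ((1 + δ * d f : ℤ) : ℂ) = W at hord g3 ⊢
      generalize ((δ * d f : ℤ) : ℂ) = F at hord
      have e : 1 / U + 1 / V = -(4 / W) := by linear_combination hord
      field_simp at e
      linear_combination e
    have hpqE : b μ p * d p = b μ q * d q := by
      rw [hU] at hprod
      have h0 : (b μ p * d p - b μ q * d q) * (b μ p * d p - b μ q * d q) = 0 := by
        linear_combination (b μ p * d p + b μ q * d q - (1 + δ * d f)) * hU - hprod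
      linarith [mul_self_eq_zero.1 h0]
    have h2E : 2 * (b μ x * d x) = -(1 + δ * d f) ∧ b μ x * b μ x = 1 := by
      have hxpq : x = p ∨ x = q := by
        by_contra! hc
        exact hax (hothers x hxf hc.1 hc.2)
      rcases hxpq with e | e <;> subst e
      · exact ⟨by linarith, sp⟩
      · exact ⟨by linarith, sq⟩
    rw [hmem x hxo hxf hax]
    linear_combination (2 * d x) * h2E.2 - (b μ x) * h2E.1 - ((1 + δ * d f) * b μ x) * hs
  · obtain ⟨ψ, h'⟩ := hsplit μ hμ2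
    have hx : x = ψ := by
      by_contra hne
      exact hax (h'.zero x hxf hne)
    subst hx
    rw [hψval μ x hμ2 h']
    linear_combination (2 * d x) * h'.sq - (2 * b μ x) * hE μ x hμ2 h'
      - (2 * (1 + δ * d f) * b μ x) * hs

end CoreHyp

end Cfsg.Agent.BSWall
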