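import Cfsg.Agent.BSWall.Alpha
import Cfsg.Agent.BSWall.Core

/-!
# The character-theoretic dichotomy of the Brauer–Suzuki–Wall configuration
-/

set_option autoImplicit false

open scoped ComplexConjugate
open Cfsg

namespace Cfsg.Agent.BSWall

theorem exists_int_of_isIntegral {z : ℂ} {p q : ℤ} (hz : IsIntegral ℤ z) (hq : q ≠ 0)
    (h : (q : ℂ) * z = p) : ∃ m : ℤ, z = m := by
  have e : z = (((p : ℚ) / q : ℚ) : ℂ) := by
    push_cast
    rw [eq_div_iff (Int.cast_ne_zero.2 hq), mul_comm, h]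
  rw [e] at hz ⊢
  obtain ⟨m, hm⟩ := Char.exists_int_of_isIntegral_rat hz
  exact ⟨m, by rw [hm]; norm_cast⟩

namespace Hyp

variable {G : Type*} [Group G] [Fintype G] {t s : G} {K : Subgroup G} (h : Hyp t K s)
include h

theorem nInv_pos : 0 < nInv G := by
  have : Nonempty {u : G // orderOf u = 2} := ⟨⟨t, h.ht⟩⟩
  exact Nat.card_pos

/-- The order equation: `∑ χ(t)² (α, χ) / χ(1)` does not depend on `μ`. -/
theorem order_sum {μ : K →* ℂˣ} (hμ : μ ≠ 1) :
    ∑ χ : IrrCharacter G, (χ : G → ℂ) t * (χ : G → ℂ) t * classInner (alpha K μ) (χ : G → ℂ) /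
      (χ : G → ℂ) 1 = 2 * (Nat.card K : ℂ) ^ 2 / (nInv G : ℂ) := by
  classical
  have hI : (nInv G : ℂ) ≠ 0 := Nat.cast_ne_zero.2 h.nInv_pos.ne'
  have hl := h.sum_split (fun y => (cnt y : ℂ) * alpha K μ y) (fun g c => by
    simp only [cnt_conj, alpha_class μ g c])
  rw [alpha_one, mul_zero, zero_add, Finset.sum_eq_zero (s := Finset.univ.filter (Outside K))
    (fun y hy => by rw [alpha_outside μ (Finset.mem_filter.1 hy).2, mul_zero]), add_zero] at hl
  have hr : ∑ x : K with x ≠ 1, (cnt (x : G) : ℂ) * alpha K μ x =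
      (Nat.card K : ℂ) * (2 * Nat.card K) := by
    have e1 : ∀ x ∈ ({x | x ≠ 1} : Finset K), (cnt (x : G) : ℂ) * alpha K μ x =
        (Nat.card K : ℂ) * alpha K μ x := fun x hx => by
      rw [h.cnt_of_mem_K x.2 fun e => (Finset.mem_filter.1 hx).2 (Subtype.ext e)]
    have e2 : ∑ x : K with x ≠ 1, alpha K μ x = ∑ x : K, alpha K μ x :=
      Finset.sum_filter_of_ne fun x _ hx e => hx (by rw [e]; exact alpha_one μ)
    rw [Finset.sum_congr rfl e1, ← Finset.mul_sum, e2]
    congr 1
    simp only [h.alpha_mem, Finset.sum_sub_distrib, Finset.sum_const, Finset.card_univ,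
      nsmul_eq_mul, ← Nat.card_eq_fintype_card, Char.monoidHom_sum_eq_zero hμ]
    rw [show ∑ x : K, ((μ x⁻¹ : ℂˣ) : ℂ) = 0 from
      (Equiv.sum_comp (Equiv.inv K) (fun x : K => ((μ x : ℂˣ) : ℂ))).trans (Char.monoidHom_sum_eq_zero hμ)]
    ring
  rw [hr] at hl
  have key : ∀ χ : IrrCharacter G, (Nat.card G : ℂ) * classInner (alpha K μ) (χ : G → ℂ) =
      ∑ y, alpha K μ y * conj ((χ : G → ℂ) y) :=
    fun χ => (Char.sum_mul_conj_eq_card_mul_classInner _ _).symm
  have hl2 : ∑ y, (cnt y : ℂ) * alpha K μ y = (nInv G : ℂ) * (nInv G : ℂ) *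
      ∑ χ : IrrCharacter G, (χ : G → ℂ) t * (χ : G → ℂ) t * classInner (alpha K μ) (χ : G → ℂ) /
        (χ : G → ℂ) 1 := by
    simp only [h.cnt_formula, Finset.mul_sum, Finset.sum_mul]
    rw [Finset.sum_comm]
    refine Finset.sum_congr rfl fun χ _ => ?_
    have hg : (Nat.card G : ℂ) ≠ 0 := Nat.cast_ne_zero.2 Nat.card_pos.ne'
    calc ∑ y, (nInv G : ℂ) * (nInv G : ℂ) / (Nat.card G : ℂ) * ((χ : G → ℂ) t * (χ : G → ℂ) t *
          conj ((χ : G → ℂ) y) / (χ : G → ℂ) 1) * alpha K μ y
        = (nInv G : ℂ) * (nInv G : ℂ) / (Nat.card G : ℂ) * ((χ : G → ℂ) t * (χ : G → ℂ) t /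
            (χ : G → ℂ) 1) * ∑ y, alpha K μ y * conj ((χ : G → ℂ) y) := by
          rw [Finset.mul_sum]; exact Finset.sum_congr rfl fun y _ => by ring
      _ = _ := by rw [← key χ]; field_simp
  rw [hl2] at hl
  rw [eq_div_iff hI]
  exact mul_left_cancel₀ hI (by linear_combination hl)

/-- The dichotomy, for `|K| > 2`. -/
theorem char_main (hk : 2 < Nat.card K) :
    (nInv G = (2 * Nat.card K - 1) * (Nat.card K - 1) ∧
      (∀ y, Outside K y → cnt y = 0 ∨ cnt y = Nat.card K - 1) ∧
      Nat.card {y : G // Outside K y ∧ cnt y = 0} = (2 * Nat.card K - 1) ^ 2 - 1) ∨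
    (nInv G = (2 * Nat.card K + 1) * (Nat.card K + 1) ∧
      (∀ y, Outside K y → cnt y = 2 * Nat.card K + 1 ∨ cnt y = Nat.card K + 1) ∧
      Nat.card {y : G // Outside K y ∧ cnt y = 2 * Nat.card K + 1} =
        (2 * Nat.card K + 1) ^ 2 - 1) := by
  classical
  letI : CommGroup K :=
    { K.toGroup with mul_comm := fun x y => Subtype.ext (h.comm _ x.2 _ y.2) }
  haveI : Finite (K →* ℂˣ) := instFiniteDualBSWall
  haveI := Fintype.ofFinite (K →* ℂˣ)
  set tK : K := ⟨t, h.tK⟩ with htKdef
  have ht1 : tK ≠ 1 := fun e => Invol.inv_ne_one h.ht (congrArg Subtype.val e)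
  have ht2 : tK * tK = 1 := Subtype.ext (Invol.inv_mul_self h.ht)
  have huniq : ∀ x : K, x * x = 1 → x = 1 ∨ x = tK := fun x hx =>
    (h.eq_one_or_eq_t_of_sq x.2 (congrArg Subtype.val hx)).imp
      (fun e => Subtype.ext e) (fun e => Subtype.ext e)
  obtain ⟨μ₀, hμ₀, hμ₀2, hμ₀u⟩ := exists_dual_order_two ht1 ht2 huniq
  obtain ⟨lam, hlam⟩ := exists_dual_not_order_two huniq hk
  -- integral data
  choose dn hdn_pos hdn using fun χ : IrrCharacter G => Char.irr_one_pos χ.2
  choose a ha using fun (μ : K →* ℂˣ) (χ : IrrCharacter G) =>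
    Char.classInner_generalized_int (alpha_genChar μ)
      (Char.isGeneralizedCharacter_of_irr χ.2)
  have hsgn : ∀ μ : K →* ℂˣ, ∃ z : ℤ, ((μ tK : ℂˣ) : ℂ) = z ∧ (z = 1 ∨ z = -1) := by
    intro μ
    have e : ((μ tK : ℂˣ) : ℂ) * ((μ tK : ℂˣ) : ℂ) = 1 := by
      rw [← Units.val_mul, ← map_mul, ht2, map_one, Units.val_one]
    rcases mul_self_eq_one_iff.1 e with e' | e'
    · exact ⟨1, by rw [e']; norm_num, Or.inl rfl⟩
    · exact ⟨-1, by rw [e']; norm_num, Or.inr rfl⟩
  choose sg hsg hsg1 using hsgn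
  obtain ⟨o, ho⟩ : ∃ o : IrrCharacter G, (o : G → ℂ) = fun _ => 1 :=
    ⟨⟨_, Char.isIrrCharacter_const_one⟩, rfl⟩
  obtain ⟨T, hT⟩ : ∃ T : IrrCharacter G → ℤ, ∀ χ, T χ = -∑ μ, a μ χ * sg μ := ⟨_, fun _ => rfl⟩
  have hval : ∀ χ : IrrCharacter G, (χ : G → ℂ) t = (T χ : ℂ) := by
    intro χ
    have e := h.value_formula (Char.irr_isClassFunction χ.2) ht1
    simp only [ha, map_intCast, hsg] at e
    rw [show (χ : G → ℂ) t = (χ : G → ℂ) (tK : G) from rfl, e, hT]
    push_cast
    rfl
  have hd : ∀ χ : IrrCharacter G, (χ : G → ℂ) 1 = (((dn χ : ℕ) : ℤ) : ℂ) := fun χ => by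
    rw [hdn χ]; norm_num
  have halpha1 : alpha K (1 : K →* ℂˣ) = 0 := by
    rw [alpha, show (fun x : K => 1 - (((1 : K →* ℂˣ) x : ℂˣ) : ℂ)) = 0 by ext; simp]
    exact CharInd.indFun_zero (H := K)
  have H : CoreHyp o (fun χ => (dn χ : ℤ)) T a sg μ₀ (2 * (Nat.card K : ℂ) ^ 2 / (nInv G : ℂ)) := by
    refine ⟨fun χ => by exact_mod_cast hdn_pos χ, ?_, ?_, ?_, ?_, ?_, ?_, hT, ?_, ?_, hsg1, ?_,
      hμ₀, hμ₀2, hμ₀u, ?_⟩
    · have := hd o
      rw [ho] at this
      simp only at this
      exact_mod_cast this.symm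
    · have := hval o
      rw [ho] at this
      simp only at this
      exact_mod_cast this.symm
    · intro μ hμ
      have := ha μ o
      rw [ho, h.inner_alpha_one hμ] at this
      exact_mod_cast this.symm
    · intro χ
      have := ha 1 χ
      rw [halpha1, Char.classInner_zero_left] at this
      exact_mod_cast this.symm
    · intro μ ν hμ hν
      have e := Char.classInner_eq_sum_mul_conj (alpha_class μ) (b := alpha K ν)
      rw [h.inner_alpha hμ hν] at e
      simp only [ha, map_intCast] at e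
      have e' : ((∑ χ, a μ χ * a ν χ : ℤ) : ℂ) =
          ((2 + (if μ = ν then 1 else 0) + (if μ * ν = 1 then 1 else 0) : ℤ) : ℂ) := by
        push_cast
        exact e.symm
      exact_mod_cast e'
    · intro μ
      have e := congrFun (Char.eq_sum_classInner_smul (alpha_class (K := K) μ)) 1
      rw [alpha_one] at e
      simp only [Finset.sum_apply, Pi.smul_apply, smul_eq_mul, ha, hd] at e
      exact_mod_cast e.symm
    · have e := sum_dual_eval (A := K) ht1
      simp only [hsg] at e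
      exact_mod_cast e
    · have := hsg 1
      simp only [MonoidHom.one_apply, Units.val_one] at this
      exact_mod_cast this.symm
    · intro μ
      have e1 := hsg μ⁻¹
      have e2 : μ⁻¹ tK = μ tK := by
        rw [MonoidHom.inv_apply, inv_eq_iff_mul_eq_one, ← map_mul, ht2, map_one]
      rw [e2, hsg μ] at e1
      exact_mod_cast e1.symm
    · intro μ hμ
      rw [← h.order_sum hμ]
      simp only [ha, hval, hd]
  obtain ⟨f, δ, hfo, hδδ, hcoef, hTf, hF0, hF1, hc, hratio⟩ := H.main hlam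
  obtain ⟨F, hF⟩ : ∃ F : ℤ, F = δ * (dn f : ℤ) := ⟨_, rfl⟩
  rw [← hF] at hF0 hF1 hc hratio
  have hk0 : (Nat.card K : ℂ) ≠ 0 := Nat.cast_ne_zero.2 Nat.card_pos.ne'
  have hI : (nInv G : ℂ) ≠ 0 := Nat.cast_ne_zero.2 h.nInv_pos.ne'
  have hFC : (F : ℂ) ≠ 0 := Int.cast_ne_zero.2 hF0
  have hF1C : (1 : ℂ) + F ≠ 0 := by
    have : ((1 + F : ℤ) : ℂ) ≠ 0 := Int.cast_ne_zero.2 hF1
    push_cast at this
    exact this
  have horder : (nInv G : ℤ) * (F - 1) ^ 2 = 2 * (Nat.card K : ℤ) ^ 2 * (F * (1 + F)) := by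
    have e : ((nInv G : ℤ) : ℂ) * ((F : ℂ) - 1) ^ 2 =
        2 * (Nat.card K : ℂ) ^ 2 * ((F : ℂ) * (1 + F)) := by
      push_cast at hc ⊢
      rw [div_neg, ← sub_eq_add_neg] at hc
      field_simp at hc
      linear_combination -hc
    exact_mod_cast e
  -- values of the common constituent
  have hfK : ∀ x : K, x ≠ 1 → (f : G → ℂ) x = (δ : ℂ) := by
    intro x hx
    rw [h.value_formula (Char.irr_isClassFunction f.2) hx]
    simp only [ha, map_intCast]
    have e : ∀ μ : K →* ℂˣ, (a μ f : ℂ) * ((μ x : ℂˣ) : ℂ) =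
        (δ : ℂ) * ((μ x : ℂˣ) : ℂ) - if μ = 1 then (δ : ℂ) else 0 := by
      intro μ
      by_cases hμ : μ = 1
      · subst hμ; rw [H.coefOne]; simp
      · rw [hcoef μ hμ, if_neg hμ, sub_zero]
    simp only [e, Finset.sum_sub_distrib, ← Finset.mul_sum, sum_dual_eval hx, Finset.sum_ite_eq',
      Finset.mem_univ, if_true]
    ring
  -- the congruence
  have hdiv : (2 * (Nat.card K : ℤ)) ∣ F - 1 := by
    obtain ⟨n, hn⟩ := Char.isCharacter_classInner_nat
      (Char.isCharacter_restrict (Char.isCharacter_of_irr f.2) (Subgroup.centralizer ({t} : Set G)))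
      ⟨fun _ => 1, Char.isIrrCharacter_const_one⟩
    have hone : ∀ x : ↥(Subgroup.centralizer ({t} : Set G)), x ≠ 1 → (f : G → ℂ) x = δ := by
      intro x hx
      have hx1 : (x : G) ≠ 1 := fun e => hx (Subtype.ext e)
      obtain ⟨-, g, hg⟩ : IntoConj K (x : G) := by
        by_cases hxK : (x : G) ∈ K
        · exact ⟨hx1, 1, by simpa using hxK⟩
        · exact h.intoConj_of_orderOf_two (h.invol_of_notMem x.2 hxK)
      rw [← hfK ⟨g⁻¹ * x * g, hg⟩ (fun e => hx1 (by
        have e' : g⁻¹ * (x : G) * g = 1 := congrArg Subtype.val e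
        have := congrArg (fun z => g * z * g⁻¹) e'
        simpa [mul_assoc] using this))]
      refine Char.isClassFunction_eq_of_isConj (Char.irr_isClassFunction f.2) ?_
      exact isConj_iff.2 ⟨g⁻¹, by simp⟩
    have hsum : ∑ x : ↥(Subgroup.centralizer ({t} : Set G)), (f : G → ℂ) x =
        (((dn f : ℤ) + (2 * (Nat.card K : ℤ) - 1) * δ : ℤ) : ℂ) := by
      rw [← Finset.add_sum_erase _ _ (Finset.mem_univ 1),
        Finset.sum_congr rfl (fun x hx => hone x (Finset.ne_of_mem_erase hx)), Finset.sum_const,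
        Finset.card_erase_of_mem (Finset.mem_univ _), Finset.card_univ, ← Nat.card_eq_fintype_card,
        h.card_H, nsmul_eq_mul, Nat.cast_sub (by have := Nat.card_pos (α := K); omega)]
      rw [show ((1 : ↥(Subgroup.centralizer ({t} : Set G))) : G) = 1 from rfl, hd f]
      push_cast; ring
    simp only [Cfsg.classInner, map_one, mul_one, hsum, h.card_H] at hn
    have e : ((dn f : ℤ) + (2 * (Nat.card K : ℤ) - 1) * δ) = 2 * (Nat.card K : ℤ) * n := by
      have : ((((dn f : ℤ) + (2 * (Nat.card K : ℤ) - 1) * δ) : ℤ) : ℂ) =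
          ((2 * (Nat.card K : ℤ) * n : ℤ) : ℂ) := by
        push_cast at hn ⊢
        field_simp at hn
        linear_combination hn
      exact_mod_cast this
    refine ⟨δ * n - 1, ?_⟩
    linear_combination δ * e + hF - (2 * (Nat.card K : ℤ) - 1) * hδδ
  obtain ⟨m, hm⟩ := hdiv
  have hm' : m = 1 ∨ m = -1 := by
    have e : (nInv G : ℤ) * m ^ 2 = (2 * Nat.card K * m + 1) * (Nat.card K * m + 1) := by
      have hk2 : (4 * (Nat.card K : ℤ) ^ 2) ≠ 0 := by positivity
      refine mul_left_cancel₀ hk2 ?_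
      rw [hm] at horder
      have hFe : F = 2 * Nat.card K * m + 1 := by linarith
      rw [hFe] at horder
      linear_combination horder
    have : m ∣ 1 := ⟨(nInv G : ℤ) * m - (2 * (Nat.card K : ℤ) ^ 2 * m + 3 * Nat.card K), by
      linear_combination -e⟩
    exact Int.isUnit_iff.1 (isUnit_of_dvd_one this)
  have h2I : 2 * (nInv G : ℤ) = F * (1 + F) := by
    have hk2 : ((2 : ℤ) * (Nat.card K : ℤ) ^ 2) ≠ 0 := by positivity
    refine mul_left_cancel₀ hk2 ?_
    rcases hm' with e | e <;> subst e <;> rw [hm] at horder <;> linear_combination horder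
  -- values outside the conjugates of `K`
  have hS : ∀ y, Outside K y → (cnt y : ℂ) = (nInv G : ℂ) / (2 * (Nat.card K : ℂ)) *
      (1 + ((δ : ℂ) * conj ((f : G → ℂ) y)) / (F : ℂ) +
        2 * ((Nat.card K : ℂ) - 1) * (1 + (δ : ℂ) * conj ((f : G → ℂ) y)) / (1 + (F : ℂ))) := by
    intro y hy
    rw [h.cnt_formula, h.card_G]
    have hsum0 : ∀ μ : K →* ℂˣ, ∑ χ : IrrCharacter G, (a μ χ : ℂ) * conj ((χ : G → ℂ) y) = 0 := by
      intro μ
      have e := congrArg conj (congrFun (Char.eq_sum_classInner_smul (alpha_class (K := K) μ)) y)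
      rw [alpha_outside μ hy] at e
      simp only [Finset.sum_apply, Pi.smul_apply, smul_eq_mul, ha, map_sum, map_mul,
        map_intCast, map_zero] at e
      exact e.symm
    have hterm : ∀ χ : IrrCharacter G, χ ∈ (Finset.univ.erase o).erase f →
        (χ : G → ℂ) t * (χ : G → ℂ) t * conj ((χ : G → ℂ) y) / (χ : G → ℂ) 1 =
          -(2 / (1 + (F : ℂ))) * ∑ μ, (a μ χ : ℂ) * conj ((χ : G → ℂ) y) := by
      intro χ hχ
      simp only [Finset.mem_erase, Finset.mem_univ, and_true] at hχ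
      have hdχ : (((dn χ : ℕ) : ℤ) : ℂ) ≠ 0 := Int.cast_ne_zero.2 (by
        exact_mod_cast (hdn_pos χ).ne')
      rw [hval, hd, ← Finset.sum_mul]
      have e : (T χ : ℂ) * (T χ : ℂ) =
          -(2 / (1 + (F : ℂ))) * ∑ μ, (a μ χ : ℂ) * (((dn χ : ℕ) : ℤ) : ℂ) := by
        nth_rw 1 [hT]
        push_cast
        rw [Finset.mul_sum, neg_mul, Finset.sum_mul, ← Finset.sum_neg_distrib]
        refine Finset.sum_congr rfl fun μ _ => ?_
        by_cases hz : a μ χ = 0
        · simp [hz]
        have hμ : μ ≠ 1 := fun e => hz (by rw [e]; exact H.coefOne χ)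
        have hr : ((1 : ℂ) + F) * (sg μ : ℂ) * (T χ : ℂ) = 2 * (((dn χ : ℕ) : ℤ) : ℂ) := by
          exact_mod_cast hratio χ hχ.2 hχ.1 μ hμ hz
        push_cast at hr
        field_simp
        linear_combination -hr
      rw [e, ← Finset.sum_mul]
      field_simp
    rw [← Finset.add_sum_erase _ _ (Finset.mem_univ o),
      ← Finset.add_sum_erase _ _ (Finset.mem_erase.2 ⟨hfo, Finset.mem_univ f⟩),
      Finset.sum_congr rfl hterm, ← Finset.mul_sum, Finset.sum_comm]
    have hrest : ∀ μ : K →* ℂˣ,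
        ∑ χ ∈ (Finset.univ.erase o).erase f, (a μ χ : ℂ) * conj ((χ : G → ℂ) y) =
          if μ = 1 then 0 else -1 - (δ : ℂ) * conj ((f : G → ℂ) y) := by
      intro μ
      have e := hsum0 μ
      rw [← Finset.add_sum_erase _ _ (Finset.mem_univ o),
        ← Finset.add_sum_erase _ _ (Finset.mem_erase.2 ⟨hfo, Finset.mem_univ f⟩)] at e
      by_cases hμ : μ = 1
      · subst hμ; simp [H.coefOne]
      · rw [H.coefO μ hμ, hcoef μ hμ, ho, map_one] at e
        rw [if_neg hμ]
        push_cast at e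
        linear_combination e
    simp only [hrest]
    rw [Finset.sum_ite, Finset.sum_const_zero, zero_add, Finset.sum_const, Finset.filter_ne',
      Finset.card_erase_of_mem (Finset.mem_univ _), Finset.card_univ, ← Nat.card_eq_fintype_card,
      card_dual, nsmul_eq_mul, Nat.cast_sub Nat.card_pos]
    rw [ho, hval f, hTf, hd f, map_one]
    have hδC : (δ : ℂ) * (δ : ℂ) = 1 := by exact_mod_cast hδδ
    have hfC : (F : ℂ) = (δ : ℂ) * (((dn f : ℕ) : ℤ) : ℂ) := by rw [hF]; norm_num
    have hd0 : (((dn f : ℕ) : ℤ) : ℂ) ≠ 0 := fun e => hFC (by rw [hfC, e, mul_zero])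
    have hδ0 : (δ : ℂ) ≠ 0 := fun e => by rw [e] at hδC; simp at hδC
    push_cast at hfC hd0 ⊢
    rw [hfC] at hF1C ⊢
    rw [hδC, mul_div_mul_left _ _ hδ0]
    field_simp
    ring
  -- rationality
  have hint : ∀ y, Outside K y → ∃ p : ℤ, (δ : ℂ) * (f : G → ℂ) y = p ∧
      (F = 2 * Nat.card K + 1 → (cnt y : ℤ) = (2 * Nat.card K + 1) + Nat.card K * p) ∧
      (F = 1 - 2 * Nat.card K → (cnt y : ℤ) = -((Nat.card K - 1) * p)) := by
    intro y hy
    have h2IC : 2 * (nInv G : ℂ) = (F : ℂ) * (1 + F) := by exact_mod_cast h2I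
    have hI' : (nInv G : ℂ) = (F : ℂ) * (1 + F) / 2 := by linear_combination h2IC / 2
    have hPI : IsIntegral ℤ ((δ : ℂ) * conj ((f : G → ℂ) y)) := by
      rw [← Char.irr_inv f.2]
      exact (Char.isIntegral_of_int δ).mul
        (Char.isCharacter_isIntegral (Char.isCharacter_of_irr f.2) _)
    have e := hS y hy
    rw [hI'] at e
    have back : ∀ p : ℤ, (δ : ℂ) * conj ((f : G → ℂ) y) = p → (δ : ℂ) * (f : G → ℂ) y = p := by
      intro p hp
      have := congrArg conj hp
      simpa using this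
    rcases hm' with e1 | e1 <;> subst e1
    · have hFe : F = 2 * (Nat.card K : ℤ) + 1 := by linarith
      rw [hFe] at e hF1C hFC
      push_cast at e hF1C hFC
      have key : ((Nat.card K : ℤ) : ℂ) * ((δ : ℂ) * conj ((f : G → ℂ) y)) =
          (((cnt y : ℤ) - (2 * Nat.card K + 1) : ℤ) : ℂ) := by
        push_cast
        field_simp at e
        apply mul_left_cancel₀ (mul_ne_zero (show (4 : ℂ) ≠ 0 by norm_num) hk0)
        linear_combination -e
      obtain ⟨p, hp⟩ := exists_int_of_isIntegral hPI (by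
        have := Nat.card_pos (α := K); omega) key
      rw [hp] at key
      have key' : (Nat.card K : ℤ) * p = (cnt y : ℤ) - (2 * Nat.card K + 1) := by exact_mod_cast key
      refine ⟨p, back p hp, fun _ => by linarith, fun hF' => ?_⟩
      have := Nat.card_pos (α := K); omega
    · have hFe : F = 1 - 2 * (Nat.card K : ℤ) := by linarith
      rw [hFe] at e hF1C hFC
      push_cast at e hF1C hFC
      have key : ((-((Nat.card K : ℤ) - 1) : ℤ) : ℂ) * ((δ : ℂ) * conj ((f : G → ℂ) y)) =
          ((cnt y : ℤ) : ℂ) := by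
        push_cast
        field_simp at e
        apply mul_left_cancel₀ (mul_ne_zero (show (4 : ℂ) ≠ 0 by norm_num) hk0)
        linear_combination -e
      obtain ⟨p, hp⟩ := exists_int_of_isIntegral hPI (by omega) key
      rw [hp] at key
      have key' : -((Nat.card K : ℤ) - 1) * p = (cnt y : ℤ) := by exact_mod_cast key
      refine ⟨p, back p hp, fun hF' => ?_, fun _ => by linarith⟩
      have := Nat.card_pos (α := K); omega
  choose P hP hPB hPA using hint
  -- sums of the values
  obtain ⟨Q, hQ⟩ : ∃ Q : G → ℤ, ∀ y, Q y = if hy : Outside K y then P y hy else 0 := ⟨_, fun _ => rfl⟩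
  have hQy : ∀ y, Outside K y → (δ : ℂ) * (f : G → ℂ) y = (Q y : ℂ) := fun y hy => by
    rw [hQ, dif_pos hy]; exact hP y hy
  have hKsum : ∀ w : ℂ, ∑ x : K with x ≠ 1, w = ((Nat.card K : ℂ) - 1) * w := by
    intro w
    rw [Finset.sum_const, Finset.filter_ne', Finset.card_erase_of_mem (Finset.mem_univ _),
      Finset.card_univ, ← Nat.card_eq_fintype_card, nsmul_eq_mul, Nat.cast_sub Nat.card_pos]
    norm_num
  have hsum1 : (∑ y with Outside K y, Q y) = -F - (nInv G : ℤ) * ((Nat.card K : ℤ) - 1) := by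
    have e := h.sum_split (fun y => (δ : ℂ) * (f : G → ℂ) y) (fun g c => by
      simp only [Char.irr_isClassFunction f.2 g c])
    rw [← Finset.mul_sum, Char.irr_sum_eq_zero f.2 (fun e => hfo (Subtype.ext (e.trans ho.symm))),
      mul_zero] at e
    rw [Finset.sum_congr rfl (fun x hx => by rw [hfK x (Finset.mem_filter.1 hx).2]), hKsum,
      Finset.sum_congr rfl (fun y hy => hQy y (Finset.mem_filter.1 hy).2), hd f] at e
    have hδC : (δ : ℂ) * (δ : ℂ) = 1 := by exact_mod_cast hδδ
    have : ((∑ y with Outside K y, Q y : ℤ) : ℂ) =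
        ((-F - (nInv G : ℤ) * ((Nat.card K : ℤ) - 1) : ℤ) : ℂ) := by
      rw [hF]; push_cast at e ⊢
      linear_combination -e - (nInv G : ℂ) * ((Nat.card K : ℂ) - 1) * hδC
    exact_mod_cast this
  have hsum2 : (∑ y with Outside K y, Q y * Q y) =
      (Nat.card G : ℤ) - F * F - (nInv G : ℤ) * ((Nat.card K : ℤ) - 1) := by
    have hδC : (δ : ℂ) * (δ : ℂ) = 1 := by exact_mod_cast hδδ
    have e := h.sum_split (fun y => (f : G → ℂ) y * conj ((f : G → ℂ) y)) (fun g c => by
      simp only [Char.irr_isClassFunction f.2 g c])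
    rw [Char.sum_mul_conj_eq_card_mul_classInner, Char.classInner_irr_self f.2, mul_one,
      Finset.sum_congr rfl (fun x hx => by
        rw [hfK x (Finset.mem_filter.1 hx).2, map_intCast, hδC]), hKsum,
      Finset.sum_congr rfl (fun y hy => show (f : G → ℂ) y * conj ((f : G → ℂ) y) =
          ((Q y * Q y : ℤ) : ℂ) by
        have h1 := hQy y (Finset.mem_filter.1 hy).2
        have h2 := congrArg conj h1
        rw [map_mul, map_intCast, map_intCast] at h2
        push_cast
        rw [← h1]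
        nth_rw 2 [h1]
        rw [← h2]
        linear_combination -((f : G → ℂ) y * conj ((f : G → ℂ) y)) * hδC), hd f, map_intCast] at e
    have : ((∑ y with Outside K y, Q y * Q y : ℤ) : ℂ) =
        (((Nat.card G : ℤ) - F * F - (nInv G : ℤ) * ((Nat.card K : ℤ) - 1) : ℤ) : ℂ) := by
      rw [hF]; push_cast at e ⊢
      linear_combination -e + ((dn f : ℂ) * (dn f : ℂ)) * hδC
    exact_mod_cast this
  have hg : (Nat.card G : ℤ) = 2 * Nat.card K * nInv G := by exact_mod_cast h.card_G
  have hzero : ∀ y, Outside K y → Q y = 0 ∨ Q y = -1 := by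
    have e : ∑ y with Outside K y, Q y * (Q y + 1) = 0 := by
      simp only [mul_add, mul_one, Finset.sum_add_distrib, hsum1, hsum2, hg]
      linarith
    intro y hy
    have hnn : ∀ z ∈ ({z | Outside K z} : Finset G), 0 ≤ Q z * (Q z + 1) := fun z _ => by
      rcases le_or_gt 0 (Q z) with h0 | h0 <;> nlinarith
    have := (Finset.sum_eq_zero_iff_of_nonneg hnn).1 e y (by simp [hy])
    rcases mul_eq_zero.1 this with e | e <;> omega
  have hcount : (Nat.card {y : G // Outside K y ∧ Q y = 0} : ℤ) = F * F - 1 := by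
    have e1 : (Nat.card {y : G // Outside K y ∧ Q y = 0} : ℤ) = ∑ y with Outside K y, (1 + Q y) := by
      rw [Nat.card_eq_fintype_card, Fintype.card_subtype, ← Finset.filter_filter,
        Finset.card_filter]
      push_cast
      refine Finset.sum_congr rfl fun y hy => ?_
      rcases hzero y (Finset.mem_filter.1 hy).2 with e | e <;> simp [e]
    have e2 : ((({y | Outside K y} : Finset G).card : ℤ)) + (nInv G : ℤ) * ((Nat.card K : ℤ) - 1) + 1
        = Nat.card G := by
      have := h.card_outside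
      rw [Nat.card_eq_fintype_card (α := {y : G // Outside K y}), Fintype.card_subtype] at this
      have h1 : ((Nat.card K - 1 : ℕ) : ℤ) = (Nat.card K : ℤ) - 1 := by
        have := Nat.card_pos (α := K); omega
      rw [← h1]
      exact_mod_cast this
    rw [e1, Finset.sum_add_distrib, hsum1, Finset.sum_const, nsmul_eq_mul, mul_one]
    rw [hg] at e2
    linarith
  rcases hm' with e1 | e1 <;> subst e1
  · have hFe : F = 2 * (Nat.card K : ℤ) + 1 := by linarith
    right
    refine ⟨?_, fun y hy => ?_, ?_⟩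
    · have e : (nInv G : ℤ) = (2 * Nat.card K + 1) * (Nat.card K + 1) := by
        rw [hFe] at h2I; linarith
      exact_mod_cast e
    · have e := hPB y hy hFe
      rw [show P y hy = Q y by rw [hQ, dif_pos hy]] at e
      rcases hzero y hy with e' | e' <;> rw [e'] at e
      · left; omega
      · right; omega
    · have e : ∀ y, (Outside K y ∧ cnt y = 2 * Nat.card K + 1) ↔ (Outside K y ∧ Q y = 0) := fun y =>
        and_congr_right fun hy => by
          have e := hPB y hy hFe
          rw [show P y hy = Q y by rw [hQ, dif_pos hy]] at e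
          rcases hzero y hy with e' | e' <;> rw [e'] at e ⊢ <;> omega
      rw [Nat.card_congr (Equiv.subtypeEquivRight e)]
      rw [hFe] at hcount
      have h1 : 1 ≤ (2 * Nat.card K + 1) ^ 2 := Nat.one_le_pow _ _ (by omega)
      zify [h1]
      linarith
  · have hFe : F = 1 - 2 * (Nat.card K : ℤ) := by linarith
    left
    refine ⟨?_, fun y hy => ?_, ?_⟩
    · have e : (nInv G : ℤ) = (2 * Nat.card K - 1) * (Nat.card K - 1) := by
        rw [hFe] at h2I; linarith
      zify [show 1 ≤ 2 * Nat.card K by omega, show 1 ≤ Nat.card K by omega]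
      linarith
    · have e := hPA y hy hFe
      rw [show P y hy = Q y by rw [hQ, dif_pos hy]] at e
      rcases hzero y hy with e' | e' <;> rw [e'] at e
      · left; omega
      · right; omega
    · have e : ∀ y, (Outside K y ∧ cnt y = 0) ↔ (Outside K y ∧ Q y = 0) := fun y =>
        and_congr_right fun hy => by
          have e := hPA y hy hFe
          rw [show P y hy = Q y by rw [hQ, dif_pos hy]] at e
          rcases hzero y hy with e' | e' <;> rw [e'] at e ⊢ <;> omega
      rw [Nat.card_congr (Equiv.subtypeEquivRight e)]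
      rw [hFe] at hcount
      have h1 : 1 ≤ (2 * Nat.card K - 1) ^ 2 := Nat.one_le_pow _ _ (by omega)
      zify [h1, show 1 ≤ 2 * Nat.card K by omega]
      linarith

end Hyp

end Cfsg.Agent.BSWall
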