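import Mathlib.Algebra.BigOperators.Ring.Finset
import Mathlib.Algebra.Order.BigOperators.Group.Finset
import Mathlib.Algebra.Order.Ring.Int
import Mathlib.Data.Fintype.BigOperators
import Mathlib.Tactic.Linarith
import Mathlib.Tactic.Ring

/-!
# Integer vectors of small norm
-/

set_option autoImplicit false

namespace Cfsg.Agent.BSWall

variable {ι : Type*} [Fintype ι] [DecidableEq ι] {c e : ι → ℤ}

theorem coeff_small (h : ∑ x, c x * c x ≤ 3) (x : ι) : c x = 0 ∨ c x = 1 ∨ c x = -1 := by
  have h1 : c x * c x ≤ 3 :=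
    le_trans (Finset.single_le_sum (f := fun y => c y * c y) (fun y _ => mul_self_nonneg _)
      (Finset.mem_univ x)) h
  have h2 : c x ≤ 1 := by nlinarith
  have h3 : -1 ≤ c x := by nlinarith
  omega

theorem card_support (h : ∑ x, c x * c x ≤ 3) :
    (({x | c x ≠ 0} : Finset ι).card : ℤ) = ∑ x, c x * c x := by
  rw [Finset.card_filter]
  push_cast
  refine Finset.sum_congr rfl fun x _ => ?_
  rcases coeff_small h x with e | e | e <;> simp [e]

/-- A vector of norm 2 with inner product 1 with a vector of norm at most 3 shares exactly one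
coordinate with it. -/
theorem pair_split (hc : ∑ x, c x * c x = 2) (he : ∑ x, e x * e x ≤ 3) (hce : ∑ x, c x * e x = 1) :
    ∃ p q : ι, p ≠ q ∧ c p * c p = 1 ∧ c q * c q = 1 ∧ e p = c p ∧ e q = 0 ∧
      ∀ x, x ≠ p → x ≠ q → c x = 0 := by
  have hsm : ∀ x, c x = 0 ∨ c x = 1 ∨ c x = -1 := coeff_small (by omega)
  have hcard := card_support (c := c) (by omega)
  rw [hc] at hcard
  obtain ⟨a, b, hab, hsupp⟩ := Finset.card_eq_two.1 (by exact_mod_cast hcard :
    ({x | c x ≠ 0} : Finset ι).card = 2)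
  have hz : ∀ x, x ≠ a → x ≠ b → c x = 0 := by
    intro x h1 h2
    by_contra h3
    have : x ∈ ({a, b} : Finset ι) := hsupp ▸ (by simp [h3])
    simp [h1, h2] at this
  have hne : ∀ x ∈ ({a, b} : Finset ι), c x ≠ 0 := by
    intro x hx
    rw [← hsupp] at hx
    simpa using hx
  have hsum : ∑ x, c x * e x = c a * e a + c b * e b := by
    rw [← Finset.sum_subset (Finset.subset_univ ({a, b} : Finset ι)) (fun x _ hx => by
      simp only [Finset.mem_insert, Finset.mem_singleton, not_or] at hx
      rw [hz x hx.1 hx.2, zero_mul]), Finset.sum_pair hab]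
  rw [hce] at hsum
  have hea := coeff_small he a
  have heb := coeff_small he b
  have hca := (hsm a).resolve_left (hne a (by simp))
  have hcb := (hsm b).resolve_left (hne b (by simp))
  have sa : c a * c a = 1 := by rcases hca with h | h <;> simp [h]
  have sb : c b * c b = 1 := by rcases hcb with h | h <;> simp [h]
  have hcases : (e a = c a ∧ e b = 0) ∨ (e b = c b ∧ e a = 0) := by
    rcases hca with h1 | h1 <;> rcases hcb with h2 | h2 <;> rw [h1, h2] at hsum ⊢ <;>
      rcases hea with h3 | h3 | h3 <;> rcases heb with h4 | h4 | h4 <;> omega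
  rcases hcases with ⟨h1, h2⟩ | ⟨h1, h2⟩
  · exact ⟨a, b, hab, sa, sb, h1, h2, hz⟩
  · exact ⟨b, a, hab.symm, sb, sa, h1, h2, fun x h3 h4 => hz x h4 h3⟩

theorem inner_pair (p q : ι) (hpq : p ≠ q) (hz : ∀ x, x ≠ p → x ≠ q → c x = 0) (f : ι → ℤ) :
    ∑ x, c x * f x = c p * f p + c q * f q := by
  rw [← Finset.sum_subset (Finset.subset_univ ({p, q} : Finset ι)) (fun x _ hx => by
    simp only [Finset.mem_insert, Finset.mem_singleton, not_or] at hx
    rw [hz x hx.1 hx.2, zero_mul]), Finset.sum_pair hpq]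

theorem eq_of_norm_sub {h : ι → ℤ} (h1 : ∑ x, c x * c x = 2) (h2 : ∑ x, h x * h x = 2)
    (h3 : ∑ x, c x * h x = 2) : c = h := by
  have h4 : ∑ x, (c x - h x) * (c x - h x) = 0 := by
    have : ∀ x, (c x - h x) * (c x - h x) = c x * c x + h x * h x - 2 * (c x * h x) := fun x => by ring
    simp only [this, Finset.sum_sub_distrib, Finset.sum_add_distrib, ← Finset.mul_sum, h1, h2, h3]
    norm_num
  funext x
  have := (Finset.sum_eq_zero_iff_of_nonneg (fun y _ => mul_self_nonneg _)).1 h4 x (Finset.mem_univ x)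
  exact sub_eq_zero.1 (mul_self_eq_zero.1 this)

end Cfsg.Agent.BSWall
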