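import Cfsg.Agent.BSWall.Setup

/-!
# Families of elements inverted by involutions
-/

set_option autoImplicit false

namespace Cfsg.Agent.BSWall

open Subgroup

variable {G : Type*} [Group G]

theorem outside_map_conj {K : Subgroup G} (g y : G) :
    Outside (K.map (MulAut.conj g).toMonoidHom) y ↔ Outside K y := by
  constructor
  · intro h x hx
    refine h (x * g⁻¹) ⟨x⁻¹ * y * x, hx, ?_⟩
    simp [mul_assoc]
  · rintro h x ⟨a, ha, hax⟩
    refine h (x * g) ?_
    have e : (x * g)⁻¹ * y * (x * g) = a := by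
      have e' : g * a * g⁻¹ = x⁻¹ * y * x := hax
      have := congrArg (fun z => g⁻¹ * z * g) e'
      simpa [mul_assoc] using this.symm
    rwa [e]

theorem mem_centralizer_conj {g x z : G} :
    g * z * g⁻¹ ∈ centralizer ({g * x * g⁻¹} : Set G) ↔ z ∈ centralizer ({x} : Set G) := by
  rw [Subgroup.mem_centralizer_singleton_iff, Subgroup.mem_centralizer_singleton_iff]
  constructor <;> intro h
  · have := congrArg (fun w => g⁻¹ * w * g) h
    simpa [mul_assoc] using this
  · have := congrArg (fun w => g * w * g⁻¹) h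
    simpa [mul_assoc] using this

theorem centralizer_conj (g x : G) :
    centralizer ({g * x * g⁻¹} : Set G) =
      (centralizer ({x} : Set G)).map (MulAut.conj g).toMonoidHom := by
  ext z
  constructor
  · intro hz
    refine ⟨g⁻¹ * z * g, (mem_centralizer_conj (g := g)).1 ?_, by simp [mul_assoc]⟩
    simpa [mul_assoc] using hz
  · rintro ⟨a, ha, rfl⟩
    exact mem_centralizer_conj.2 ha

theorem card_centralizer_conj (g x : G) :
    Nat.card (centralizer ({g * x * g⁻¹} : Set G)) = Nat.card (centralizer ({x} : Set G)) := by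
  rw [centralizer_conj]
  exact Nat.card_congr ((centralizer ({x} : Set G)).equivMapOfInjective _
    (MulAut.conj g).injective).toEquiv.symm

theorem mem_of_odd_of_index_two {A N : Subgroup G} [Finite G] (hAN : A ≤ N)
    (hcard : Nat.card N = Nat.card A * 2) {n : G} (hn : n ∈ N) (ho : ¬ 2 ∣ orderOf n) : n ∈ A := by
  have h2 : (A.subgroupOf N).index = 2 := by
    have e := (A.subgroupOf N).card_mul_index
    rw [Nat.card_congr (Subgroup.subgroupOfEquivOfLe hAN).toEquiv, hcard] at e
    exact Nat.eq_of_mul_eq_mul_left Nat.card_pos e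
  have hsq : n * n ∈ A :=
    (Subgroup.mem_subgroupOf (h := ⟨n, hn⟩ * ⟨n, hn⟩)).1
      (Subgroup.mul_self_mem_of_index_two h2 ⟨n, hn⟩)
  obtain ⟨m, hm⟩ : Odd (orderOf n) := by
    rwa [← Nat.not_even_iff_odd, even_iff_two_dvd]
  have e : (n * n) ^ (m + 1) = n := by
    rw [← pow_two, ← pow_mul, show 2 * (m + 1) = (2 * m + 1) + 1 by omega, pow_succ, ← hm,
      pow_orderOf_eq_one, one_mul]
  exact e ▸ A.pow_mem hsq _

theorem odd_orderOf_of_odd_card {A : Subgroup G} (hA : ¬ 2 ∣ Nat.card A) {x : G} (hx : x ∈ A) :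
    ¬ 2 ∣ orderOf x :=
  fun h => hA (h.trans (orderOf_dvd_natCard A hx))

namespace Hyp

variable {t s : G} {K : Subgroup G} (h : Hyp t K s)
include h

/-- The hypotheses are invariant under conjugation. -/
theorem conjHyp (g : G) :
    Hyp (g * t * g⁻¹) (K.map (MulAut.conj g).toMonoidHom) (g * s * g⁻¹) where
  ht := by rw [Invol.orderOf_conj]; exact h.ht
  comm := by
    rintro _ ⟨a, ha, rfl⟩ _ ⟨b, hb, rfl⟩
    rw [← map_mul, ← map_mul, h.comm a ha b hb]
  leH := by
    rw [centralizer_conj]; exact Subgroup.map_mono h.leH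
  tK := ⟨t, h.tK, rfl⟩
  hs := by rw [Invol.orderOf_conj]; exact h.hs
  sH := mem_centralizer_conj.2 h.sH
  sK := by
    rintro ⟨a, ha, e⟩
    have : a = s := (MulAut.conj g).injective e
    exact h.sK (this ▸ ha)
  gen := by
    rw [centralizer_conj, ← h.gen, Subgroup.map_sup, MonoidHom.map_zpowers]
    rfl
  fix := by
    rw [centralizer_conj, ← Subgroup.map_inf _ _ _ (MulAut.conj g).injective, h.fix,
      MonoidHom.map_zpowers]
    rfl
  inv := by
    rintro _ ⟨a, ha, rfl⟩
    have := congrArg (fun z => g * z * g⁻¹) (h.inv a ha)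
    simpa [mul_assoc] using this
  ti := by
    intro x hx
    rw [centralizer_conj] at hx
    rw [eq_bot_iff]
    rintro z ⟨⟨a, ha, rfl⟩, _, ⟨b, hb, rfl⟩, hbz⟩
    have hx' : g⁻¹ * x * g ∉ centralizer ({t} : Set G) := fun hm => hx ⟨_, hm, by simp [mul_assoc]⟩
    have e : x * (g * b * g⁻¹) * x⁻¹ = g * a * g⁻¹ := hbz
    have hmem : a ∈ K ⊓ K.map (MulAut.conj (g⁻¹ * x * g)).toMonoidHom := by
      refine ⟨ha, b, hb, ?_⟩
      have := congrArg (fun z => g⁻¹ * z * g) e
      simpa [mul_assoc] using this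
    rw [h.ti _ hx', Subgroup.mem_bot] at hmem
    simp [hmem]
  conj := h.conj

theorem outside_of_commute {y x : G} (hy : Outside K y) (hx1 : x ≠ 1) (hc : Commute y x) :
    Outside K x := by
  intro g hg
  by_cases hgt : g⁻¹ * x * g = t
  · refine h.not_commute hy (w := x) ?_ hc
    have e : x = g * t * g⁻¹ := by rw [← hgt]; simp [mul_assoc]
    rw [e, Invol.orderOf_conj]; exact h.ht
  · have h2 : g⁻¹ * y * g ∈ centralizer ({g⁻¹ * x * g} : Set G) := by
      rw [Subgroup.mem_centralizer_singleton_iff]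
      have := congrArg (fun z => g⁻¹ * z * g) hc.eq
      simpa [mul_assoc] using this
    have h3 : g⁻¹ * x * g ≠ 1 := fun e => hx1 (by
      have := congrArg (fun z => g * z * g⁻¹) e; simpa [mul_assoc] using this)
    rw [h.centralizer_eq hg h3 hgt] at h2
    exact hy g h2

theorem not_involution {y : G} (hy : Outside K y) : orderOf y ≠ 2 :=
  fun e => h.not_commute hy e (Commute.refl y)

omit h in
theorem exists_inverting {y : G} (hc : cnt y ≠ 0) :
    ∃ u, orderOf u = 2 ∧ u * y * u = y⁻¹ := by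
  rw [cnt, Nat.card_ne_zero] at hc
  obtain ⟨⟨u, hu, hu2⟩⟩ := hc.1
  exact ⟨u, hu, ((orderOf_mul_eq_two_iff hu).1 hu2).1⟩

variable [Finite G]

theorem exists_inverting_of_conj_inv {y c : G} (hy : Outside K y) (hc : c * y * c⁻¹ = y⁻¹) :
    ∃ u, orderOf u = 2 ∧ u * y * u = y⁻¹ := by
  classical
  obtain ⟨a, m, hm2, hm⟩ : ∃ a m, ¬ 2 ∣ m ∧ orderOf c = 2 ^ a * m :=
    Nat.exists_eq_pow_mul_and_not_dvd (orderOf_pos c).ne' 2 (by norm_num)
  obtain ⟨i, hi⟩ : Odd m := by rwa [← Nat.not_even_iff_odd, even_iff_two_dvd]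
  have hinv : c * y⁻¹ * c⁻¹ = y := by
    have := congrArg (fun z => z⁻¹) hc
    simpa [mul_assoc] using this
  have hcm : ∀ j : ℕ, c ^ (2 * j) * y * (c ^ (2 * j))⁻¹ = y := by
    intro j
    induction j with
    | zero => simp
    | succ j ih =>
      rw [show 2 * (j + 1) = 2 * j + 2 by ring, pow_add, pow_two]
      calc c ^ (2 * j) * (c * c) * y * (c ^ (2 * j) * (c * c))⁻¹
          = c ^ (2 * j) * (c * (c * y * c⁻¹) * c⁻¹) * (c ^ (2 * j))⁻¹ := by simp [mul_assoc]
        _ = y := by rw [hc, hinv, ih]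
  have hdm : c ^ m * y * (c ^ m)⁻¹ = y⁻¹ := by
    rw [hi, pow_succ']
    calc c * c ^ (2 * i) * y * (c * c ^ (2 * i))⁻¹
        = c * (c ^ (2 * i) * y * (c ^ (2 * i))⁻¹) * c⁻¹ := by simp [mul_assoc]
      _ = y⁻¹ := by rw [hcm, hc]
  have hd2 : (c ^ m) ^ 2 ∈ centralizer ({y} : Set G) := by
    rw [Subgroup.mem_centralizer_singleton_iff, ← pow_mul, mul_comm m 2]
    exact mul_inv_eq_iff_eq_mul.1 (hcm m)
  have hd4 : (c ^ m) ^ 2 ^ a = 1 := by
    rw [← pow_mul, mul_comm, ← hm, pow_orderOf_eq_one]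
  have hsq : (c ^ m) ^ 2 = 1 := by
    rw [← orderOf_eq_one_iff]
    refine Nat.eq_one_of_dvd_coprimes
      (Nat.Coprime.pow_left a ((Nat.Prime.coprime_iff_not_dvd Nat.prime_two).2
        (h.not_two_dvd_centralizer hy))) ?_ (orderOf_dvd_natCard _ hd2)
    refine orderOf_dvd_of_pow_eq_one ?_
    rw [← pow_mul, mul_comm, pow_mul, hd4, one_pow]
  have hne : c ^ m ≠ 1 := fun e => by
    rw [e] at hdm
    simp only [one_mul, inv_one, mul_one] at hdm
    refine h.not_involution hy (Invol.orderOf_eq_two ?_ hy.ne_one)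
    nth_rw 2 [hdm]
    exact mul_inv_cancel y
  have ho : orderOf (c ^ m) = 2 := Invol.orderOf_eq_two (by rw [← pow_two]; exact hsq) hne
  exact ⟨c ^ m, ho, by rwa [Invol.inv_eq ho] at hdm⟩

theorem cnt_ne_zero {y u : G} (hy : Outside K y) (hu : orderOf u = 2) (hiu : u * y * u = y⁻¹) :
    cnt y ≠ 0 := by
  rw [h.cnt_eq_card hy hu hiu]; exact Nat.card_pos.ne'

theorem three_le_card {y : G} (hy : Outside K y) :
    3 ≤ Nat.card (centralizer ({y} : Set G)) := by
  have h1 : 1 < orderOf y := by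
    have := orderOf_pos y
    have h1 : orderOf y ≠ 1 := fun e => hy.ne_one (orderOf_eq_one_iff.1 e)
    omega
  have h2 := h.not_involution hy
  have h3 := Nat.le_of_dvd Nat.card_pos (orderOf_dvd_natCard (centralizer ({y} : Set G)) (x := y)
    (Subgroup.mem_centralizer_singleton_iff.2 rfl))
  omega

/-- The order of the normaliser of the centraliser of an element inverted by an involution. -/
theorem real_normalizer {y u : G} (hy : Outside K y) (hu : orderOf u = 2)
    (hiu : u * y * u = y⁻¹) :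
    u ∈ normalizer ((centralizer ({y} : Set G)) : Set G) ∧
    ∃ l, Nat.card (normalizer ((centralizer ({y} : Set G)) : Set G)) =
        Nat.card (centralizer ({y} : Set G)) * l ∧
      l ∣ Nat.card K ∧ 2 ∣ l ∧ l ∣ Nat.card (centralizer ({y} : Set G)) - 1 := by
  obtain ⟨g, rfl⟩ := h.exists_conj_t hu
  obtain ⟨htN, L, hLK, htL, -, hcard, hdvd⟩ :=
    (h.conjHyp g).normalizer_real ((outside_map_conj g y).2 hy) hiu
  refine ⟨htN, Nat.card L, hcard, ?_, ?_, hdvd⟩
  · rw [← Nat.card_congr (K.equivMapOfInjective (MulAut.conj g).toMonoidHom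
      (MulAut.conj g).injective).symm.toEquiv]
    exact Subgroup.card_dvd_of_le hLK
  · rw [← hu]; exact orderOf_dvd_natCard L htL

theorem of_intoConj_centralizer {y u z : G} (hy : Outside K y) (hu : orderOf u = 2)
    (hiu : u * y * u = y⁻¹) (hz : IntoConj (centralizer ({y} : Set G)) z) :
    Outside K z ∧ cnt z = Nat.card (centralizer ({y} : Set G)) := by
  obtain ⟨hz1, g, hg⟩ := hz
  have hz' : g * (g⁻¹ * z * g) * g⁻¹ = z := by simp [mul_assoc]
  have h1 : g⁻¹ * z * g ≠ 1 := fun e => hz1 (by rw [← hz', e]; simp)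
  have hout := h.real_outside hy hu hiu hg h1
  rw [← hz']
  refine ⟨outside_conj hout g, ?_⟩
  rw [cnt_conj, h.cnt_eq_card hout hu (h.real_inverted hy hu hiu hg),
    h.real_centralizer_eq hy hu hiu hg h1]

theorem intoConj_centralizer_disjoint {y y' u u' z : G} (hy : Outside K y) (hu : orderOf u = 2)
    (hiu : u * y * u = y⁻¹) (hy' : Outside K y') (_hu' : orderOf u' = 2)
    (_hiu' : u' * y' * u' = y'⁻¹) (hz : IntoConj (centralizer ({y} : Set G)) z)
    (hz' : IntoConj (centralizer ({y'} : Set G)) z) :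
    IntoConj (centralizer ({y} : Set G)) y' := by
  obtain ⟨hz1, g, hg⟩ := hz
  obtain ⟨-, g', hg'⟩ := hz'
  have h1 : g⁻¹ * z * g ≠ 1 := fun e => hz1 (by
    have := congrArg (fun w => g * w * g⁻¹) e; simpa [mul_assoc] using this)
  have hcm : y' * (g'⁻¹ * z * g') = g'⁻¹ * z * g' * y' :=
    (Subgroup.mem_centralizer_singleton_iff.1 hg').symm
  refine ⟨hy'.ne_one, g'⁻¹ * g, ?_⟩
  rw [← h.real_centralizer_eq hy hu hiu hg h1, Subgroup.mem_centralizer_singleton_iff]
  have := congrArg (fun w => g⁻¹ * g' * w * (g'⁻¹ * g)) hcm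
  simpa [mul_assoc] using this

/-- The number of elements conjugate into the centraliser. -/
theorem card_family {y u : G} {n : ℕ} (hy : Outside K y) (hu : orderOf u = 2)
    (hiu : u * y * u = y⁻¹)
    (hn : Nat.card (normalizer ((centralizer ({y} : Set G)) : Set G)) =
        Nat.card (centralizer ({y} : Set G)) * n) :
    Nat.card {z : G // IntoConj (centralizer ({y} : Set G)) z} *
        (Nat.card (centralizer ({y} : Set G)) * n) + Nat.card G =
      Nat.card G * Nat.card (centralizer ({y} : Set G)) := by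
  rw [card_intoConj (centralizer ({y} : Set G))
    (normalizer ((centralizer ({y} : Set G)) : Set G))
    (fun g hg x hx => ((Subgroup.mem_normalizer_iff.1 hg) x).1 hx)
    (fun g x hx hx1 hgx => h.real_ti hy hu hiu g x hx hx1 hgx), ← hn,
    ← (normalizer ((centralizer ({y} : Set G)) : Set G)).card_mul_index]
  obtain ⟨a, ha⟩ := Nat.exists_eq_succ_of_ne_zero (Nat.card_pos (α := centralizer ({y} : Set G))).ne'
  rw [ha, Nat.succ_sub_one, Nat.succ_eq_add_one]
  ring

end Hyp

end Cfsg.Agent.BSWall
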