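import Cfsg.Agent.CharDeep.ZassAbelian
import Cfsg.Prelude.Def_LieExceptional

/-!
# Recognition of `PSL(2, q)` from the conclusion of the Brauer–Suzuki–Wall theorem
-/

set_option autoImplicit false

namespace Cfsg.Agent.BSWall

open Subgroup MulAction
open Cfsg.Agent.PermB (ZData IsKernel)

universe u

theorem exists_emb_three {α : Type*} {a b c : α} (hab : a ≠ b) (hac : a ≠ c) (hbc : b ≠ c) :
    ∃ s : Fin 3 ↪ α, s 0 = a ∧ s 1 = b ∧ s 2 = c :=
  ⟨⟨![a, b, c], by
    intro i j e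
    fin_cases i <;> fin_cases j <;> simp_all [eq_comm]⟩, rfl, rfl, rfl⟩

set_option maxHeartbeats 800000 in
theorem exists_psl_of_concl {G : Type u} [Group G] [Finite G] [IsSimpleGroup G] (Q D : Subgroup G)
    (hcard : 2 * Nat.card G = Nat.card ↥Q * (Nat.card ↥Q + 1) * (Nat.card ↥Q - 1))
    (hQC : ∀ x ∈ Q, x ≠ 1 → centralizer ({x} : Set G) = Q)
    (hDc : IsMulCommutative ↥D) (hD2 : 2 * Nat.card ↥D + 1 = Nat.card ↥Q) (hinf : Q ⊓ D = ⊥)
    (hN : normalizer (Q : Set G) = Q ⊔ D) (h5 : 1 < Nat.card ↥D)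
    (hX : ∃ u : G, orderOf u = 2 ∧ u ∉ D ∧ ∀ d ∈ D, u * d * u⁻¹ = d⁻¹) :
    ∃ (F : Type) (_ : Field F) (_ : Fintype F), Odd (Fintype.card F) ∧
      Fintype.card F = Nat.card ↥Q ∧
      Nonempty (G ≃* Matrix.ProjectiveSpecialLinearGroup (Fin 2) F) := by
  classical
  set N := normalizer (Q : Set G) with hNdef
  have hQN : Q ≤ N := Subgroup.le_normalizer
  have hDN : D ≤ N := hN ▸ le_sup_right
  have hconjQ : ∀ n ∈ N, ∀ x ∈ Q, n * x * n⁻¹ ∈ Q := fun n hn x hx =>
    (Subgroup.mem_normalizer_iff.1 hn x).1 hx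
  have hcomm : ∀ x ∈ Q, ∀ y ∈ Q, x * y = y * x := by
    intro x hx y hy
    by_cases hx1 : x = 1
    · simp [hx1]
    · exact (mem_centralizer_singleton_iff.1 ((hQC x hx hx1).symm ▸ hy : y ∈ centralizer ({x} : Set G))).symm
  -- decomposition of `N`
  have hdec : ∀ g ∈ N, ∃ x ∈ Q, ∃ e ∈ D, g = x * e := by
    let S : Subgroup G :=
      { carrier := {g | ∃ x ∈ Q, ∃ e ∈ D, g = x * e}
        one_mem' := ⟨1, one_mem _, 1, one_mem _, (one_mul _).symm⟩
        mul_mem' := by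
          rintro _ _ ⟨x, hx, e, he, rfl⟩ ⟨x', hx', e', he', rfl⟩
          exact ⟨x * (e * x' * e⁻¹), mul_mem hx (hconjQ e (hDN he) x' hx'), e * e', mul_mem he he',
            by group⟩
        inv_mem' := by
          rintro _ ⟨x, hx, e, he, rfl⟩
          exact ⟨e⁻¹ * x⁻¹ * e, by simpa using hconjQ e⁻¹ (inv_mem (hDN he)) x⁻¹ (inv_mem hx),
            e⁻¹, inv_mem he, by group⟩ }
    intro g hg
    rw [hN] at hg
    exact (sup_le (fun x hx => ⟨x, hx, 1, one_mem _, (mul_one x).symm⟩)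
      (fun e he => ⟨1, one_mem _, e, he, (one_mul e).symm⟩) : Q ⊔ D ≤ S) hg
  have hQD : ∀ x ∈ Q, x ∈ D → x = 1 := fun x hx hxD => by
    have : x ∈ Q ⊓ D := ⟨hx, hxD⟩
    rwa [hinf, Subgroup.mem_bot] at this
  have huniq : ∀ {x x' e e' : G}, x ∈ Q → x' ∈ Q → e ∈ D → e' ∈ D → x * e = x' * e' →
      x = x' ∧ e = e' := by
    intro x x' e e' hx hx' he he' heq
    have h1 : x'⁻¹ * x = e' * e⁻¹ := by
      calc x'⁻¹ * x = x'⁻¹ * (x * e) * e⁻¹ := by group
        _ = e' * e⁻¹ := by rw [heq]; group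
    have h2 := hQD _ (mul_mem (inv_mem hx') hx) (h1 ▸ mul_mem he' (inv_mem he))
    refine ⟨(inv_mul_eq_one.1 h2).symm, ?_⟩
    rw [h2] at h1
    exact (mul_inv_eq_one.1 h1.symm).symm
  have hNcard : Nat.card ↥N = Nat.card ↥Q * Nat.card ↥D := by
    rw [← Nat.card_prod]
    refine (Nat.card_congr (Equiv.ofBijective (fun p : Q × D =>
      (⟨(p.1 : G) * p.2, mul_mem (hQN p.1.2) (hDN p.2.2)⟩ : N)) ⟨?_, ?_⟩)).symm
    · intro p q e
      obtain ⟨h1, h2⟩ := huniq p.1.2 q.1.2 p.2.2 q.2.2 (congrArg Subtype.val e)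
      exact Prod.ext (Subtype.ext h1) (Subtype.ext h2)
    · rintro ⟨g, hg⟩
      obtain ⟨x, hx, e, he, rfl⟩ := hdec g hg
      exact ⟨(⟨x, hx⟩, ⟨e, he⟩), rfl⟩
  set q := Nat.card ↥Q with hq
  set d := Nat.card ↥D with hd
  -- elements of `N` of order dividing `q` lie in `Q`
  have hhall : ∀ g ∈ N, g ^ q = 1 → g ∈ Q := by
    intro g hg hgq
    haveI hn : (Q.subgroupOf N).Normal := Subgroup.normal_in_normalizer
    have hidx : (Q.subgroupOf N).index = d := by
      have h1 := Subgroup.card_mul_index (Q.subgroupOf N)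
      rw [Nat.card_congr (Subgroup.subgroupOfEquivOfLe hQN).toEquiv, hNcard] at h1
      exact Nat.eq_of_mul_eq_mul_left Nat.card_pos h1
    have h1 := pow_index_mem (Q.subgroupOf N) (⟨g, hg⟩ : N)
    rw [hidx, Subgroup.mem_subgroupOf, SubgroupClass.coe_pow] at h1
    have hco : q = 2 * d + 1 := hD2.symm
    have h2 : g ^ q = g * (g ^ d) ^ 2 := by rw [← pow_mul, ← pow_succ', hco, mul_comm]
    rw [hgq] at h2
    rw [eq_inv_of_mul_eq_one_left h2.symm]
    exact inv_mem (pow_mem h1 2)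
  have hfree : ∀ g : G, g ∉ N → ∀ x ∈ Q, g⁻¹ * x * g ∈ N → x = 1 := by
    intro g hg x hx hxg
    by_contra hx1
    refine hg (inv_mem_iff.1 (Subgroup.mem_normalizer_iff.2 fun y => ?_))
    have hxq : x ^ q = 1 := congrArg Subtype.val (pow_card_eq_one' (x := (⟨x, hx⟩ : Q)))
    have hx'Q := hhall _ hxg (by
      have := conj_pow (a := g⁻¹) (b := x) (i := q)
      rw [inv_inv] at this
      rw [this, hxq]; group)
    have hx'1 : g⁻¹ * x * g ≠ 1 := fun e => hx1 (by
      calc x = g * (g⁻¹ * x * g) * g⁻¹ := by group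
        _ = 1 := by rw [e]; group)
    rw [inv_inv]
    nth_rewrite 1 [← hQC x hx hx1]
    rw [← hQC _ hx'Q hx'1, mem_centralizer_singleton_iff, mem_centralizer_singleton_iff]
    constructor
    · intro e
      calc g⁻¹ * y * g * (g⁻¹ * x * g) = g⁻¹ * (y * x) * g := by group
        _ = g⁻¹ * (x * y) * g := by rw [e]
        _ = g⁻¹ * x * g * (g⁻¹ * y * g) := by group
    · intro e
      calc y * x = g * (g⁻¹ * y * g * (g⁻¹ * x * g)) * g⁻¹ := by group
        _ = g * (g⁻¹ * x * g * (g⁻¹ * y * g)) * g⁻¹ := by rw [e]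
        _ = x * y := by group
  -- the action on the conjugates of `Q`
  have hcardG : Nat.card G = q * d * (q + 1) := by
    rw [← hD2] at hcard ⊢
    rw [show 2 * d + 1 - 1 = 2 * d by omega] at hcard
    have : 2 * Nat.card G = 2 * ((2 * d + 1) * d * (2 * d + 1 + 1)) := by rw [hcard]; ring
    omega
  set Ω := G ⧸ N
  have hΩ : Nat.card Ω = q + 1 := by
    have h1 : N.index * Nat.card ↥N = Nat.card G := Subgroup.index_mul_card N
    rw [hNcard, hcardG] at h1
    refine Nat.eq_of_mul_eq_mul_right (show 0 < q * d from Nat.mul_pos Nat.card_pos Nat.card_pos) ?_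
    rw [show Nat.card Ω = N.index from rfl, h1]; ring
  have hkey : ∀ g : G, ((g : G) : Ω) = ((1 : G) : Ω) ↔ g ∈ N := fun g => by
    rw [eq_comm, QuotientGroup.eq, inv_one, one_mul]
  have hsm : ∀ g x : G, g • (x : Ω) = ((g * x : G) : Ω) := fun _ _ => rfl
  set a : Ω := ((1 : G) : Ω) with ha
  have hsta : ∀ g : G, g • a = a ↔ g ∈ N := fun g => by rw [ha, hsm, mul_one, hkey]
  have hinj : ∀ y : Ω, y ≠ a → ∀ x ∈ Q, ∀ x' ∈ Q, x • y = x' • y → x = x' := by
    intro y hy x hx x' hx' e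
    induction y using QuotientGroup.induction_on with | _ g => ?_
    rw [hsm, hsm, QuotientGroup.eq] at e
    refine inv_mul_eq_one.1 (hfree g (fun hg => hy ((hkey g).2 hg)) _ (mul_mem (inv_mem hx) hx') ?_)
    simpa [mul_assoc] using e
  have hne : ∀ y : Ω, y ≠ a → ∀ x ∈ Q, x • y ≠ a := by
    intro y hy x hx e
    refine hy ?_
    rw [← inv_smul_smul x y, e]
    exact (hsta _).2 (hQN (inv_mem hx))
  have hrep : ∀ y : Ω, y ≠ a → ∀ y' : Ω, y' ≠ a → ∃ x ∈ Q, x • y = y' := by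
    intro y hy y' hy'
    have hothers : Nat.card {w : Ω // w ≠ a} = q := by
      have h1 : Nat.card {w : Ω // w = a} + Nat.card {w : Ω // w ≠ a} = Nat.card Ω := by
        rw [← Nat.card_sum]; exact Nat.card_congr (Equiv.sumCompl _)
      have h2 : Nat.card {w : Ω // w = a} = 1 := by simp
      omega
    let f : Q → {w : Ω // w ≠ a} := fun x => ⟨(x : G) • y, hne y hy x x.2⟩
    have hf : Function.Bijective f := (Nat.bijective_iff_injective_and_card f).2
      ⟨fun x x' e => Subtype.ext (hinj y hy x x.2 x' x'.2 (congrArg Subtype.val e)), hothers.symm⟩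
    obtain ⟨x, hx⟩ := hf.2 ⟨y', hy'⟩
    exact ⟨x, x.2, congrArg Subtype.val hx⟩
  have hker : IsKernel (G := G) Q a :=
    { le := fun g hg => mem_stabilizer_iff.2 ((hsta g).2 (hQN hg))
      conj := fun g hg u hu => hconjQ g ((hsta g).1 hg) u hu
      reg := fun y y' hy hy' => by
        obtain ⟨x, hx, hxy⟩ := hrep y hy y' hy'
        exact ⟨⟨x, hx⟩, hxy, fun u hu => Subtype.ext
          (hinj y hy u u.2 x hx (hu.trans hxy.symm))⟩ }
  obtain ⟨u, hu, huD, hinv⟩ := hX
  have huu : u * u = 1 := by rw [← pow_two, ← hu]; exact pow_orderOf_eq_one u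
  have hui : u⁻¹ = u := inv_eq_of_mul_eq_one_right huu
  have huN : u ∉ N := by
    intro huN
    obtain ⟨x, hx, e, he, rfl⟩ := hdec u huN
    have hDcomm : ∀ y ∈ D, ∀ y' ∈ D, y * y' = y' * y := fun y hy y' hy' =>
      congrArg Subtype.val (hDc.is_comm.comm ⟨y, hy⟩ ⟨y', hy'⟩)
    obtain ⟨y, hy, hy1⟩ : ∃ y ∈ D, y ≠ 1 := by
      by_contra hall
      push Not at hall
      have : D = ⊥ := eq_bot_iff.2 fun y hy => Subgroup.mem_bot.2 (hall y hy)
      rw [hd, this, Subgroup.card_bot] at h5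
      omega
    have h1 := hinv y hy
    rw [show x * e * y * (x * e)⁻¹ = x * (e * y * e⁻¹) * x⁻¹ by group, hDcomm e he y hy,
      mul_inv_cancel_right] at h1
    have h2 : y * x⁻¹ * y⁻¹ = x⁻¹ * (y⁻¹ * y⁻¹) := by
      calc y * x⁻¹ * y⁻¹ = x⁻¹ * (x * y * x⁻¹) * y⁻¹ := by group
        _ = _ := by rw [h1]; group
    have h3 := huniq (hconjQ y (hDN hy) x⁻¹ (inv_mem hx)) (inv_mem hx) (one_mem D)
      (mul_mem (inv_mem hy) (inv_mem hy)) (by rw [mul_one]; exact h2)
    by_cases hx1 : x = 1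
    · subst hx1; exact huD (by rwa [one_mul])
    have hxy : y ∈ centralizer ({x} : Set G) := by
      rw [mem_centralizer_singleton_iff]
      have e1 : y * x⁻¹ = x⁻¹ * y := by
        calc y * x⁻¹ = y * x⁻¹ * y⁻¹ * y := by group
          _ = x⁻¹ * y := by rw [h3.1]
      calc y * x = x * (x⁻¹ * y) * x := by group
        _ = x * (y * x⁻¹) * x := by rw [e1]
        _ = x * y := by group
    rw [hQC x hx hx1] at hxy
    exact hy1 (hQD y hxy hy)
  set b : Ω := u • a with hb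
  have hab : a ≠ b := fun e => huN ((hsta u).1 e.symm)
  have hH2 : ∀ g : G, g • a = a → g • b = b → g ∈ D := by
    intro g hga hgb
    obtain ⟨x, hx, e, he, rfl⟩ := hdec g ((hsta g).1 hga)
    have heb : e • b = b := by
      rw [hb, ← mul_smul, show e * u = u * (u⁻¹ * e * u) by group, mul_smul, smul_left_cancel_iff]
      refine (hsta _).2 ?_
      have := hinv e he
      rw [hui] at this ⊢
      rw [this]
      exact hDN (inv_mem he)
    rw [mul_smul, heb] at hgb
    have := hinj b hab.symm x hx 1 (one_mem _) (by rw [hgb, one_smul])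
    rwa [this, one_mul]
  have hDfix : ∀ e ∈ D, e • a = a ∧ e • b = b := by
    intro e he
    refine ⟨(hsta e).2 (hDN he), ?_⟩
    rw [hb, ← mul_smul, show e * u = u * (u⁻¹ * e * u) by group, mul_smul, smul_left_cancel_iff]
    refine (hsta _).2 ?_
    have := hinv e he
    rw [hui] at this ⊢
    rw [this]
    exact hDN (inv_mem he)
  haveI htr : IsPretransitive G Ω := inferInstance
  have htwo : ∀ {y y' : Ω}, y ≠ y' → ∃ g : G, g • a = y ∧ g • b = y' := by
    intro y y' hyy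
    obtain ⟨g, hg⟩ := MulAction.exists_smul_eq G a y
    obtain ⟨x, hx, hxy⟩ := hrep b hab.symm (g⁻¹ • y') fun e => hyy (by
      rw [inv_smul_eq_iff] at e; rw [e, hg])
    exact ⟨g * x, by rw [mul_smul, (hsta x).2 (hQN hx), hg], by rw [mul_smul, hxy, smul_inv_smul]⟩
  have hthree : ∀ g : G, g • a = a → g • b = b → ∀ c : Ω, c ≠ a → c ≠ b → g • c = c → g = 1 := by
    intro g hga hgb c hca hcb hgc
    have hgD := hH2 g hga hgb
    obtain ⟨x, hx, hxc⟩ := hrep b hab.symm c hca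
    have h1 : x⁻¹ * g * x ∈ D := by
      refine hH2 _ ?_ ?_
      · rw [mul_smul, mul_smul, (hsta x).2 (hQN hx), hga, (hsta _).2 (inv_mem (hQN hx))]
      · rw [mul_smul, mul_smul, hxc, hgc, ← hxc, inv_smul_smul]
    have h2 : x⁻¹ * g * x * g⁻¹ = 1 := hQD _
      (by rw [show x⁻¹ * g * x * g⁻¹ = x⁻¹ * (g * x * g⁻¹) by group]
          exact mul_mem (inv_mem hx) (hconjQ g (hDN hgD) x hx))
      (mul_mem h1 (inv_mem hgD))
    have hx1 : x ≠ 1 := fun e => hcb (by rw [← hxc, e, one_smul])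
    have h3 : g ∈ centralizer ({x} : Set G) := by
      rw [mem_centralizer_singleton_iff]
      calc g * x = x * (x⁻¹ * g * x * g⁻¹) * g := by group
        _ = x * g := by rw [h2, mul_one]
    rw [hQC x hx hx1] at h3
    exact hQD g h3 hgD
  have hthree' : ∀ g : G, ∀ y y' y'' : Ω, y ≠ y' → y' ≠ y'' → y ≠ y'' → g • y = y → g • y' = y' →
      g • y'' = y'' → g = 1 := by
    intro g y y' y'' h12 h23 h13 h1 h2 h3
    obtain ⟨γ, hγ1, hγ2⟩ := htwo h12
    have h4 := hthree (γ⁻¹ * g * γ) (by rw [mul_smul, mul_smul, hγ1, h1, inv_smul_eq_iff, hγ1])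
      (by rw [mul_smul, mul_smul, hγ2, h2, inv_smul_eq_iff, hγ2]) (γ⁻¹ • y'')
      (fun e => h13 (by rw [inv_smul_eq_iff] at e; rw [e, hγ1]))
      (fun e => h23 (by rw [inv_smul_eq_iff] at e; rw [e, hγ2]))
      (by rw [mul_smul, mul_smul, smul_inv_smul, h3])
    calc g = γ * (γ⁻¹ * g * γ) * γ⁻¹ := by group
      _ = 1 := by rw [h4]; group
  have hfaith : FaithfulSMul G Ω := by
    refine ⟨fun {g g'} hgg => ?_⟩
    obtain ⟨c, hca, hcb⟩ := PermB.exists_ne_ne (show 3 ≤ Nat.card Ω by omega) a b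
    have h1 : ∀ y : Ω, (g'⁻¹ * g) • y = y := fun y => by rw [mul_smul, hgg, inv_smul_smul]
    exact (inv_mul_eq_one.1 (hthree _ (h1 a) (h1 b) c hca hcb (h1 c))).symm
  have hZ : Cfsg.IsZassenhausGroup G Ω := by
    refine ⟨hfaith, ?_, fun g y y' y'' => hthree' g y y' y'', ?_, ?_⟩
    · rw [MulAction.is_two_pretransitive_iff]
      intro y y' z z' hy hz
      obtain ⟨g, hg1, hg2⟩ := htwo hy
      obtain ⟨g', hg1', hg2'⟩ := htwo hz
      exact ⟨g' * g⁻¹, by rw [mul_smul, ← hg1, inv_smul_smul, hg1'],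
        by rw [mul_smul, ← hg2, inv_smul_smul, hg2']⟩
    · obtain ⟨y, hy, hy1⟩ : ∃ y ∈ D, y ≠ 1 := by
        by_contra hall
        push Not at hall
        have : D = ⊥ := eq_bot_iff.2 fun y hy => Subgroup.mem_bot.2 (hall y hy)
        rw [hd, this, Subgroup.card_bot] at h5
        omega
      exact ⟨y, hy1, a, b, hab, (hDfix y hy).1, (hDfix y hy).2⟩
    · intro M hM htrM
      rcases hM.eq_bot_or_eq_top with rfl | rfl
      · exfalso
        obtain ⟨⟨g, hg⟩, hgb⟩ := htrM.exists_smul_eq a b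
        rw [Subgroup.mem_bot] at hg
        subst hg
        exact hab ((one_smul G a).symm.trans hgb)
      · refine ⟨a, fun e => ?_⟩
        obtain ⟨x, hx, hx1⟩ : ∃ x ∈ Q, x ≠ 1 := by
          by_contra hall
          push Not at hall
          have : Q = ⊥ := eq_bot_iff.2 fun y hy => Subgroup.mem_bot.2 (hall y hy)
          rw [hq, this, Subgroup.card_bot] at hD2
          omega
        have : (⟨x, Subgroup.mem_top x⟩ : (⊤ : Subgroup G)) ∈ stabilizer (⊤ : Subgroup G) a :=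
          mem_stabilizer_iff.2 ((hsta x).2 (hQN hx))
        have h0 := Subgroup.mem_bot.1 (e.le this)
        exact hx1 (congrArg Subtype.val h0)
  have hQcomm : IsMulCommutative Q := ⟨⟨fun x y => Subtype.ext (hcomm x x.2 y y.2)⟩⟩
  rcases CharDeep.ZA.abelian_kernel hZ hker hab hQcomm with ⟨h3t, -⟩ | ⟨K, iK, iF, -, hK, e⟩
  · exfalso
    -- a sharply triply transitive group would be too large
    have hle : Nat.card {c : Ω // c ≠ a ∧ c ≠ b} ≤ d := by
      obtain ⟨c₀, h₀a, h₀b⟩ := PermB.exists_ne_ne (show 3 ≤ Nat.card Ω by omega) a b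
      have hex : ∀ c : {c : Ω // c ≠ a ∧ c ≠ b}, ∃ g ∈ D, g • c₀ = c.1 := by
        rintro ⟨c, hca, hcb⟩
        haveI := h3t
        obtain ⟨s, hs0, hs1, hs2⟩ := exists_emb_three hab (Ne.symm h₀a) (Ne.symm h₀b)
        obtain ⟨t, ht0, ht1, ht2⟩ := exists_emb_three hab (Ne.symm hca) (Ne.symm hcb)
        obtain ⟨g, hg⟩ := MulAction.exists_smul_eq G s t
        have h : ∀ i, g • s i = t i := fun i => by
          have := DFunLike.congr_fun hg i
          simpa using this
        have e0 := h 0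
        have e1 := h 1
        have e2 := h 2
        rw [hs0, ht0] at e0
        rw [hs1, ht1] at e1
        rw [hs2, ht2] at e2
        exact ⟨g, hH2 g e0 e1, e2⟩
      choose f hfD hf using hex
      exact Nat.card_le_card_of_injective (fun c => (⟨f c, hfD c⟩ : D)) fun c c' e =>
        Subtype.ext ((hf c).symm.trans ((congrArg (fun x : D => (x : G) • c₀) e).trans (hf c')))
    have h1 : Nat.card {c : Ω // c ≠ a ∧ c ≠ b} + 2 = Nat.card Ω := by
      haveI : Fintype Ω := Fintype.ofFinite Ω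
      rw [Nat.card_eq_fintype_card, Nat.card_eq_fintype_card, Fintype.card_subtype]
      have : (Finset.univ.filter fun c : Ω => c ≠ a ∧ c ≠ b) = Finset.univ \ {a, b} := by
        ext c; simp
      rw [this, Finset.card_univ_sdiff, Finset.card_pair hab]
      have : 2 ≤ Fintype.card Ω := by rw [← Nat.card_eq_fintype_card, hΩ]; omega
      omega
    omega
  · exact ⟨K, iK, iF, ⟨d, by omega⟩, by omega, e⟩

end Cfsg.Agent.BSWall
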