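import Cfsg.Agent.BSWall.TI
import Cfsg.Agent.Invol.Basic
import Cfsg.Agent.Lib.ClassSize
import Mathlib.GroupTheory.GroupAction.Quotient
import Mathlib.GroupTheory.FixedPointFree

/-!
# Brauer–Suzuki–Wall configuration: elementary consequences

An involution `t` with centralizer `K⟨s⟩`, where `K` is an abelian TI subgroup inverted by the
involution `s`, `C_K(s) = ⟨t⟩`, and a single class of involutions.
-/

set_option autoImplicit false

namespace Cfsg.Agent.BSWall

open Subgroup

variable {G : Type*} [Group G]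

/-- The Brauer–Suzuki–Wall hypotheses. -/
structure Hyp (t : G) (K : Subgroup G) (s : G) : Prop where
  ht : orderOf t = 2
  comm : ∀ a ∈ K, ∀ b ∈ K, a * b = b * a
  leH : K ≤ centralizer ({t} : Set G)
  tK : t ∈ K
  hs : orderOf s = 2
  sH : s ∈ centralizer ({t} : Set G)
  sK : s ∉ K
  gen : K ⊔ zpowers s = centralizer ({t} : Set G)
  fix : K ⊓ centralizer ({s} : Set G) = zpowers t
  inv : ∀ x ∈ K, s * x * s⁻¹ = x⁻¹
  ti : ∀ g : G, g ∉ centralizer ({t} : Set G) → K ⊓ K.map (MulAut.conj g).toMonoidHom = ⊥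
  conj : ∀ x y : G, orderOf x = 2 → orderOf y = 2 → IsConj x y

/-- The number of ways to write `y` as a product of two involutions. -/
noncomputable def cnt (y : G) : ℕ :=
  Nat.card {u : G // orderOf u = 2 ∧ orderOf (u * y) = 2}

/-- The number of involutions. -/
noncomputable def nInv (G : Type*) [Group G] : ℕ := Nat.card {u : G // orderOf u = 2}

/-- No conjugate of `y` lies in `K`. -/
def Outside (K : Subgroup G) (y : G) : Prop := ∀ g : G, g⁻¹ * y * g ∉ K

theorem Outside.ne_one {K : Subgroup G} {y : G} (h : Outside K y) : y ≠ 1 := by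
  rintro rfl
  exact h 1 (by simp)

theorem outside_conj {K : Subgroup G} {y : G} (h : Outside K y) (c : G) :
    Outside K (c * y * c⁻¹) := fun g hg => h (c⁻¹ * g) (by simpa [mul_assoc] using hg)

theorem outside_iff {K : Subgroup G} {y : G} : Outside K y ↔ y ≠ 1 ∧ ¬ IntoConj K y := by
  refine ⟨fun h => ⟨h.ne_one, fun ⟨_, g, hg⟩ => h g hg⟩, fun ⟨h1, h⟩ g hg => h ⟨h1, g, hg⟩⟩

theorem orderOf_mul_eq_two_iff {u y : G} (hu : orderOf u = 2) :
    orderOf (u * y) = 2 ↔ u * y * u = y⁻¹ ∧ y ≠ u := by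
  constructor
  · intro h
    refine ⟨eq_inv_of_mul_eq_one_left ?_, ?_⟩
    · have := Invol.inv_mul_self h
      simpa [mul_assoc] using this
    · rintro rfl
      rw [Invol.inv_mul_self hu] at h
      simp at h
  · rintro ⟨h, hne⟩
    refine Invol.orderOf_eq_two ?_ ?_
    · rw [← mul_assoc, h, inv_mul_cancel]
    · intro h1
      exact hne ((eq_inv_of_mul_eq_one_right h1).trans (Invol.inv_eq hu))

theorem cnt_one : cnt (1 : G) = nInv G :=
  Nat.card_congr (Equiv.subtypeEquivRight fun u => by simp)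

theorem cnt_conj (c y : G) : cnt (c * y * c⁻¹) = cnt y := by
  refine Nat.card_congr (Equiv.subtypeEquiv (MulAut.conj c⁻¹).toEquiv fun u => ?_)
  have h1 : orderOf ((MulAut.conj c⁻¹) u) = orderOf u :=
    orderOf_injective (MulAut.conj c⁻¹).toMonoidHom (MulAut.conj c⁻¹).injective u
  have h2 : orderOf ((MulAut.conj c⁻¹) u * y) = orderOf (u * (c * y * c⁻¹)) := by
    rw [← orderOf_injective (MulAut.conj c).toMonoidHom (MulAut.conj c).injective]
    congr 1
    simp [mul_assoc]
  exact ⟨fun h => ⟨h1.trans h.1, h2.trans h.2⟩, fun h => ⟨h1.symm.trans h.1, h2.symm.trans h.2⟩⟩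

namespace Hyp

variable {t s : G} {K : Subgroup G} (h : Hyp t K s)
include h

theorem eq_one_or_eq_t_of_sq {x : G} (hx : x ∈ K) (h2 : x * x = 1) : x = 1 ∨ x = t := by
  have hc : x ∈ centralizer ({s} : Set G) := by
    rw [Subgroup.mem_centralizer_singleton_iff]
    have h1 := h.inv x hx
    rw [inv_eq_of_mul_eq_one_right h2, mul_inv_eq_iff_eq_mul] at h1
    exact h1.symm
  have hxt : x ∈ zpowers t := h.fix ▸ ⟨hx, hc⟩
  obtain ⟨i, rfl⟩ := mem_zpowers_iff.1 hxt
  obtain ⟨j, rfl | rfl⟩ : ∃ j : ℤ, i = 2 * j ∨ i = 2 * j + 1 := ⟨i / 2, by omega⟩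
  · left; rw [zpow_mul, zpow_two, Invol.inv_mul_self h.ht, one_zpow]
  · right; rw [zpow_add, zpow_mul, zpow_two, Invol.inv_mul_self h.ht, one_zpow, one_mul, zpow_one]

theorem eq_t_of_invol {x : G} (hx : x ∈ K) (h2 : orderOf x = 2) : x = t :=
  (h.eq_one_or_eq_t_of_sq hx (Invol.inv_mul_self h2)).resolve_left (Invol.inv_ne_one h2)

theorem mem_or (g : G) (hg : g ∈ centralizer ({t} : Set G)) : g ∈ K ∨ g * s ∈ K := by
  have hss := Invol.inv_mul_self h.hs
  have hi := Invol.inv_eq h.hs
  have key : ∀ x ∈ K, s * x * s = x⁻¹ := fun x hx => by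
    have := h.inv x hx; rwa [hi] at this
  let M : Subgroup G :=
    { carrier := {g | g ∈ K ∨ g * s ∈ K}
      one_mem' := Or.inl K.one_mem
      mul_mem' := by
        rintro a b (ha | ha) (hb | hb)
        · exact Or.inl (K.mul_mem ha hb)
        · exact Or.inr (by simpa [mul_assoc] using K.mul_mem ha hb)
        · refine Or.inr ?_
          have e : a * b * s = a * s * (s * b * s) := by
            simp [mul_assoc, Invol.mul_self_cancel h.hs]
          rw [e, key b hb]
          exact K.mul_mem ha (K.inv_mem hb)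
        · refine Or.inl ?_
          have e : a * b = a * s * (s * (b * s) * s) := by
            simp [mul_assoc, Invol.mul_self_cancel h.hs, hss]
          rw [e, key _ hb]
          exact K.mul_mem ha (K.inv_mem hb)
      inv_mem' := by
        rintro a (ha | ha)
        · exact Or.inl (K.inv_mem ha)
        · refine Or.inr ?_
          have e : a⁻¹ * s = s * (a * s)⁻¹ * s := by
            simp [mul_assoc, hi, Invol.mul_self_cancel h.hs]
          rw [e, key _ (K.inv_mem ha), inv_inv]
          exact ha }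
  have hle : K ⊔ zpowers s ≤ M := sup_le (fun x hx => Or.inl hx)
    (zpowers_le.2 (Or.inr (by rw [hss]; exact K.one_mem)))
  exact hle (h.gen.symm ▸ hg)

theorem inverts {g : G} (hg : g ∈ centralizer ({t} : Set G)) (hgK : g ∉ K) {x : G} (hx : x ∈ K) :
    g * x * g⁻¹ = x⁻¹ := by
  have hgs := (h.mem_or g hg).resolve_left hgK
  have hi := h.inv x hx
  have hc := h.comm _ hgs _ (K.inv_mem hx)
  calc g * x * g⁻¹ = g * s * (s * x * s⁻¹) * (g * s)⁻¹ := by
        rw [Invol.inv_eq h.hs, mul_inv_rev, Invol.inv_eq h.hs]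
        simp [mul_assoc, Invol.mul_self_cancel h.hs]
    _ = x⁻¹ := by rw [hi, hc, mul_inv_cancel_right]

theorem invol_of_notMem {g : G} (hg : g ∈ centralizer ({t} : Set G)) (hgK : g ∉ K) :
    orderOf g = 2 := by
  have hgs := (h.mem_or g hg).resolve_left hgK
  refine Invol.orderOf_eq_two ?_ fun h1 => hgK (h1 ▸ K.one_mem)
  calc g * g = g * s * (s * (g * s) * s⁻¹) := by
        simp [mul_assoc, Invol.inv_eq h.hs, Invol.mul_self_cancel h.hs, Invol.inv_mul_self h.hs]
    _ = 1 := by rw [h.inv _ hgs, mul_inv_cancel]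

theorem conj_mem {g : G} (hg : g ∈ centralizer ({t} : Set G)) {x : G} (hx : x ∈ K) :
    g * x * g⁻¹ ∈ K := by
  by_cases hgK : g ∈ K
  · exact K.mul_mem (K.mul_mem hgK hx) (K.inv_mem hgK)
  · rw [h.inverts hg hgK hx]; exact K.inv_mem hx

theorem mem_H_of_conj {g x : G} (hx : x ∈ K) (hx1 : x ≠ 1) (hgx : g * x * g⁻¹ ∈ K) :
    g ∈ centralizer ({t} : Set G) := by
  by_contra hg
  have h1 : g * x * g⁻¹ ∈ K ⊓ K.map (MulAut.conj g).toMonoidHom := ⟨hgx, x, hx, rfl⟩
  rw [h.ti g hg, Subgroup.mem_bot] at h1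
  exact hx1 (conj_eq_one_iff.1 h1)

theorem centralizer_eq {x : G} (hx : x ∈ K) (hx1 : x ≠ 1) (hxt : x ≠ t) :
    centralizer ({x} : Set G) = K := by
  refine le_antisymm (fun g hg => ?_) fun g hg =>
    Subgroup.mem_centralizer_singleton_iff.2 (h.comm g hg x hx)
  rw [Subgroup.mem_centralizer_singleton_iff] at hg
  have hgx : g * x * g⁻¹ = x := by rw [hg, mul_inv_cancel_right]
  by_contra hgK
  have h2 := h.inverts (h.mem_H_of_conj hx hx1 (hgx.symm ▸ hx)) hgK hx
  rw [hgx] at h2
  exact ((h.eq_one_or_eq_t_of_sq hx (eq_inv_iff_mul_eq_one.1 h2)).elim hx1 hxt)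

theorem exists_conj_t {w : G} (hw : orderOf w = 2) : ∃ g : G, g * t * g⁻¹ = w :=
  isConj_iff.1 (h.conj t w h.ht hw)

theorem intoConj_of_orderOf_two {w : G} (hw : orderOf w = 2) : IntoConj K w := by
  obtain ⟨g, rfl⟩ := h.exists_conj_t hw
  exact ⟨Invol.inv_ne_one hw, g, by simpa [mul_assoc] using h.tK⟩

theorem intoConj_of_commute {y w : G} (hy : y ≠ 1) (hw : orderOf w = 2) (hc : Commute y w) :
    IntoConj K y := by
  obtain ⟨g, rfl⟩ := h.exists_conj_t hw
  have hm : g⁻¹ * y * g ∈ centralizer ({t} : Set G) := by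
    rw [Subgroup.mem_centralizer_singleton_iff]
    have := congrArg (fun z => g⁻¹ * z * g) hc.eq
    simpa [mul_assoc] using this
  by_cases hK : g⁻¹ * y * g ∈ K
  · exact ⟨hy, g, hK⟩
  · refine h.intoConj_of_orderOf_two ?_
    rw [← h.invol_of_notMem hm hK]
    simpa [mul_assoc] using Invol.orderOf_conj g (g⁻¹ * y * g)

theorem not_commute {y w : G} (hy : Outside K y) (hw : orderOf w = 2) : ¬ Commute y w :=
  fun hc => (outside_iff.1 hy).2 (h.intoConj_of_commute hy.ne_one hw hc)

variable [Finite G]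

theorem two_dvd_k : 2 ∣ Nat.card K := by
  rw [← h.ht]; exact orderOf_dvd_natCard K h.tK

theorem card_H : Nat.card (centralizer ({t} : Set G)) = 2 * Nat.card K := by
  classical
  let f : K ⊕ K → centralizer ({t} : Set G) := fun z => Sum.elim (fun x => ⟨x.1, h.leH x.2⟩)
    (fun x => ⟨x.1 * s, mul_mem (h.leH x.2) h.sH⟩) z
  have hf : Function.Bijective f := by
    constructor
    · rintro (a | a) (b | b) hab
      · exact congrArg Sum.inl (Subtype.ext (congrArg Subtype.val hab :))
      · exfalso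
        have e : (a : G) = b * s := congrArg Subtype.val hab
        exact h.sK ((K.mul_mem_cancel_left b.2).1 (e ▸ a.2))
      · exfalso
        have e : (a : G) * s = b := congrArg Subtype.val hab
        exact h.sK ((K.mul_mem_cancel_left a.2).1 (e.symm ▸ b.2))
      · exact congrArg Sum.inr (Subtype.ext (mul_right_cancel (congrArg Subtype.val hab)))
    · rintro ⟨g, hg⟩
      rcases h.mem_or g hg with hk | hk
      · exact ⟨Sum.inl ⟨g, hk⟩, rfl⟩
      · exact ⟨Sum.inr ⟨g * s, hk⟩, Subtype.ext (Invol.cancel_mul_self h.hs g)⟩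
  rw [← Nat.card_eq_of_bijective f hf, Nat.card_sum, two_mul]

theorem card_G : Nat.card G = 2 * Nat.card K * nInv G := by
  rw [← ClassSize.card_centralizer_mul_ncard_conjugatesOf t, h.card_H,
    ← Nat.card_coe_set_eq, nInv]
  congr 1
  refine Nat.card_congr (Equiv.subtypeEquivRight fun u => ⟨fun hu => ?_, fun hu => ?_⟩)
  · rw [← Invol.orderOf_eq_of_isConj (hu : IsConj t u)]; exact h.ht
  · exact h.conj t u h.ht hu

theorem index_H : (centralizer ({t} : Set G)).index = nInv G := by
  have h1 := (centralizer ({t} : Set G)).card_mul_index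
  rw [h.card_H, h.card_G] at h1
  exact Nat.eq_of_mul_eq_mul_left (Nat.mul_pos two_pos Nat.card_pos) h1

theorem card_intoConj_K : Nat.card {y : G // IntoConj K y} = nInv G * (Nat.card K - 1) := by
  rw [card_intoConj K _ (fun g hg x hx => h.conj_mem hg hx)
    (fun g x hx hx1 hgx => h.mem_H_of_conj hx hx1 hgx), h.index_H]

theorem card_outside :
    Nat.card {y : G // Outside K y} + nInv G * (Nat.card K - 1) + 1 = Nat.card G := by
  classical
  haveI := Fintype.ofFinite G
  rw [← h.card_intoConj_K]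
  simp only [Nat.card_eq_fintype_card, Fintype.card_subtype]
  have h1 : ({y | Outside K y} : Finset G) = ({y | y ≠ 1} : Finset G).filter
      (fun y => ¬ IntoConj K y) := by
    ext y; simp [outside_iff]
  have h2 : ({y | IntoConj K y} : Finset G) = ({y | y ≠ 1} : Finset G).filter
      (fun y => IntoConj K y) := by
    rw [Finset.filter_filter]
    exact Finset.filter_congr fun y _ => ⟨fun hy => ⟨hy.1, hy⟩, And.right⟩
  rw [h1, h2, add_comm (Finset.card _) (Finset.card _),
    Finset.card_filter_add_card_filter_not, Finset.filter_ne']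
  simp
  have := Fintype.card_pos (α := G)
  omega

theorem cnt_of_mem_K {x : G} (hx : x ∈ K) (hx1 : x ≠ 1) : cnt x = Nat.card K := by
  rw [cnt]
  by_cases hxt : x = t
  · subst hxt
    let f : K → {u : G // orderOf u = 2 ∧ orderOf (u * x) = 2} := fun a => ⟨a * s, by
      have hm : (a : G) * s ∈ centralizer ({x} : Set G) := mul_mem (h.leH a.2) h.sH
      have hn : (a : G) * s ∉ K := fun hK => h.sK ((K.mul_mem_cancel_left a.2).1 hK)
      exact ⟨h.invol_of_notMem hm hn, h.invol_of_notMem (mul_mem hm (h.leH hx))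
        fun hK => hn ((K.mul_mem_cancel_right hx).1 hK)⟩⟩
    refine (Nat.card_eq_of_bijective f ⟨fun a b hab => ?_, fun u => ?_⟩).symm
    · exact Subtype.ext (mul_right_cancel (congrArg Subtype.val hab))
    · obtain ⟨hi, hne⟩ := (orderOf_mul_eq_two_iff u.2.1).1 u.2.2
      rw [Invol.inv_eq h.ht] at hi
      have hm : (u : G) ∈ centralizer ({x} : Set G) := by
        rw [Subgroup.mem_centralizer_singleton_iff]
        have := congrArg (fun z => z * (u : G)) hi
        simpa [mul_assoc, Invol.inv_mul_self u.2.1] using this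
      have hn : (u : G) ∉ K := fun hK => hne (h.eq_t_of_invol hK u.2.1).symm
      exact ⟨⟨u * s, (h.mem_or _ hm).resolve_left hn⟩, Subtype.ext (Invol.cancel_mul_self h.hs _)⟩
  · let f : K → {u : G // orderOf u = 2 ∧ orderOf (u * x) = 2} := fun a => ⟨a * s, by
      have hm : (a : G) * s ∈ centralizer ({t} : Set G) := mul_mem (h.leH a.2) h.sH
      have hn : (a : G) * s ∉ K := fun hK => h.sK ((K.mul_mem_cancel_left a.2).1 hK)
      exact ⟨h.invol_of_notMem hm hn, h.invol_of_notMem (mul_mem hm (h.leH hx))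
        fun hK => hn ((K.mul_mem_cancel_right hx).1 hK)⟩⟩
    refine (Nat.card_eq_of_bijective f ⟨fun a b hab => ?_, fun u => ?_⟩).symm
    · exact Subtype.ext (mul_right_cancel (congrArg Subtype.val hab))
    · obtain ⟨hi, hne⟩ := (orderOf_mul_eq_two_iff u.2.1).1 u.2.2
      have hi' : (u : G) * x * (u : G)⁻¹ = x⁻¹ := by rw [Invol.inv_eq u.2.1]; exact hi
      have hm := h.mem_H_of_conj hx hx1 (hi' ▸ K.inv_mem hx)
      have hn : (u : G) ∉ K := fun hK => by
        rw [h.comm _ hK _ hx, mul_inv_cancel_right] at hi'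
        exact ((h.eq_one_or_eq_t_of_sq hx (eq_inv_iff_mul_eq_one.1 hi')).elim hx1 hxt)
      exact ⟨⟨u * s, (h.mem_or _ hm).resolve_left hn⟩, Subtype.ext (Invol.cancel_mul_self h.hs _)⟩

/-! ### Elements outside the conjugates of `K` that are inverted by an involution -/

variable {y u : G}

theorem real_inverted (hy : Outside K y) (hu : orderOf u = 2) (hiu : u * y * u = y⁻¹) {a : G}
    (ha : a ∈ centralizer ({y} : Set G)) : u * a * u = a⁻¹ := by
  rw [Subgroup.mem_centralizer_singleton_iff] at ha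
  have huu := Invol.inv_mul_self hu
  have hmem : ∀ c ∈ centralizer ({y} : Set G), u * c * u⁻¹ ∈ centralizer ({y} : Set G) := by
    intro c hc
    rw [Subgroup.mem_centralizer_singleton_iff] at hc ⊢
    have hcc : Commute c y⁻¹ := (Commute.inv_right hc)
    have hy' : u * y⁻¹ * u = y := by
      rw [← hiu]; simp [mul_assoc, Invol.mul_self_cancel hu, huu]
    have e := congrArg (fun z => u * z * u) hcc.eq
    simp only [mul_assoc] at e
    have e2 : u * c * u * (u * y⁻¹ * u) = u * y⁻¹ * u * (u * c * u) := by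
      simpa [mul_assoc, Invol.mul_self_cancel hu] using e
    rw [hy'] at e2
    rw [Invol.inv_eq hu]
    exact e2
  let φ : centralizer ({y} : Set G) →* centralizer ({y} : Set G) :=
    ((MulAut.conj u).toMonoidHom.comp (centralizer ({y} : Set G)).subtype).codRestrict _
      fun c => hmem c c.2
  have hfp : MonoidHom.FixedPointFree φ := by
    intro c hc
    have h1 : u * (c : G) * u⁻¹ = c := congrArg Subtype.val hc
    by_contra hc1
    have hc1' : (c : G) ≠ 1 := fun e => hc1 (Subtype.ext e)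
    obtain ⟨-, g, hg⟩ := h.intoConj_of_commute hc1' hu (mul_inv_eq_iff_eq_mul.1 h1).symm
    by_cases hgt : g⁻¹ * c * g = t
    · refine h.not_commute hy (w := (c : G)) ?_ (Subgroup.mem_centralizer_singleton_iff.1 c.2).symm
      have e : (c : G) = g * t * g⁻¹ := by rw [← hgt]; simp [mul_assoc]
      rw [e, Invol.orderOf_conj]; exact h.ht
    · have h2 : g⁻¹ * y * g ∈ centralizer ({g⁻¹ * (c : G) * g} : Set G) := by
        rw [Subgroup.mem_centralizer_singleton_iff]
        have := congrArg (fun z => g⁻¹ * z * g) (Subgroup.mem_centralizer_singleton_iff.1 c.2)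
        simpa [mul_assoc] using this.symm
      have h3 : g⁻¹ * (c : G) * g ≠ 1 := fun e => hc1' (by
        have := congrArg (fun z => g * z * g⁻¹) e; simpa [mul_assoc] using this)
      rw [h.centralizer_eq hg h3 hgt] at h2
      exact hy g h2
  have hinv : Function.Involutive φ := fun c => Subtype.ext (by
    show u * (u * (c : G) * u⁻¹) * u⁻¹ = c
    simp [mul_assoc, Invol.inv_eq hu, Invol.mul_self_cancel hu, huu])
  have h1 := congrArg Subtype.val (congrFun (hfp.coe_eq_inv_of_involutive hinv)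
    ⟨a, Subgroup.mem_centralizer_singleton_iff.2 ha⟩)
  simpa [Invol.inv_eq hu] using (show u * a * u⁻¹ = a⁻¹ from h1)

theorem real_comm (hy : Outside K y) (hu : orderOf u = 2) (hiu : u * y * u = y⁻¹) {a b : G}
    (ha : a ∈ centralizer ({y} : Set G)) (hb : b ∈ centralizer ({y} : Set G)) :
    a * b = b * a := by
  have h1 := h.real_inverted hy hu hiu (mul_mem ha hb)
  have h2 : u * (a * b) * u = (u * a * u) * (u * b * u) := by
    simp [mul_assoc, Invol.mul_self_cancel hu]
  rw [h2, h.real_inverted hy hu hiu ha, h.real_inverted hy hu hiu hb, mul_inv_rev] at h1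
  have h3 := congrArg (fun z => z⁻¹) h1
  simpa [mul_inv_rev] using h3.symm

omit [Finite G] in
theorem not_two_dvd_centralizer (hy : Outside K y) [Finite G] :
    ¬ 2 ∣ Nat.card (centralizer ({y} : Set G)) := by
  intro hd
  obtain ⟨⟨w, hw⟩, hw2⟩ := exists_prime_orderOf_dvd_card' (G := centralizer ({y} : Set G)) 2 hd
  refine h.not_commute hy (w := w) (by rwa [← Subgroup.orderOf_mk w hw]) ?_
  exact (Subgroup.mem_centralizer_singleton_iff.1 hw).symm

theorem real_outside (hy : Outside K y) (hu : orderOf u = 2) (hiu : u * y * u = y⁻¹) {x : G}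
    (hx : x ∈ centralizer ({y} : Set G)) (hx1 : x ≠ 1) : Outside K x := by
  intro g hg
  have hyc : y * x = x * y := (Subgroup.mem_centralizer_singleton_iff.1 hx).symm
  by_cases hgt : g⁻¹ * x * g = t
  · refine h.not_commute hy (w := x) ?_ hyc
    have e : x = g * t * g⁻¹ := by rw [← hgt]; simp [mul_assoc]
    rw [e, Invol.orderOf_conj]; exact h.ht
  · have h2 : g⁻¹ * y * g ∈ centralizer ({g⁻¹ * x * g} : Set G) := by
      rw [Subgroup.mem_centralizer_singleton_iff]
      have := congrArg (fun z => g⁻¹ * z * g) hyc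
      simpa [mul_assoc] using this
    have h3 : g⁻¹ * x * g ≠ 1 := fun e => hx1 (by
      have := congrArg (fun z => g * z * g⁻¹) e; simpa [mul_assoc] using this)
    rw [h.centralizer_eq hg h3 hgt] at h2
    exact hy g h2

theorem real_centralizer_eq (hy : Outside K y) (hu : orderOf u = 2) (hiu : u * y * u = y⁻¹) {x : G}
    (hx : x ∈ centralizer ({y} : Set G)) (hx1 : x ≠ 1) :
    centralizer ({x} : Set G) = centralizer ({y} : Set G) := by
  refine le_antisymm (fun g hg => ?_) fun g hg =>
    Subgroup.mem_centralizer_singleton_iff.2 (h.real_comm hy hu hiu hg hx)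
  have hxo := h.real_outside hy hu hiu hx hx1
  have hxi : u * x * u = x⁻¹ := h.real_inverted hy hu hiu hx
  have hyx : y ∈ centralizer ({x} : Set G) :=
    Subgroup.mem_centralizer_singleton_iff.2 (Subgroup.mem_centralizer_singleton_iff.1 hx).symm
  exact Subgroup.mem_centralizer_singleton_iff.2 (h.real_comm hxo hu hxi hg hyx)

theorem real_ti (hy : Outside K y) (hu : orderOf u = 2) (hiu : u * y * u = y⁻¹) (g x : G)
    (hx : x ∈ centralizer ({y} : Set G)) (hx1 : x ≠ 1)
    (hgx : g * x * g⁻¹ ∈ centralizer ({y} : Set G)) :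
    g ∈ normalizer ((centralizer ({y} : Set G)) : Set G) := by
  have h1 := h.real_centralizer_eq hy hu hiu hx hx1
  have h2 := h.real_centralizer_eq hy hu hiu hgx (fun e => hx1 (conj_eq_one_iff.1 e))
  rw [Subgroup.mem_normalizer_iff]
  intro a
  nth_rw 1 [← h1]
  rw [← h2, Subgroup.mem_centralizer_singleton_iff, Subgroup.mem_centralizer_singleton_iff]
  constructor
  · intro ha
    have := congrArg (fun z => g * z * g⁻¹) ha
    simpa [mul_assoc] using this
  · intro ha
    have := congrArg (fun z => g⁻¹ * z * g) ha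
    simpa [mul_assoc] using this

theorem cnt_eq_card (hy : Outside K y) (hu : orderOf u = 2) (hiu : u * y * u = y⁻¹) :
    cnt y = Nat.card (centralizer ({y} : Set G)) := by
  let f : centralizer ({y} : Set G) → {v : G // orderOf v = 2 ∧ orderOf (v * y) = 2} := fun a =>
    ⟨u * a, by
      have hi := h.real_inverted hy hu hiu a.2
      have hua : orderOf (u * (a : G)) = 2 := by
        refine Invol.orderOf_eq_two ?_ fun e => ?_
        · rw [← mul_assoc, hi, inv_mul_cancel]
        · refine h.not_two_dvd_centralizer hy ?_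
          have e' : (a : G) = u := (eq_inv_of_mul_eq_one_right e).trans (Invol.inv_eq hu)
          have := orderOf_dvd_natCard (centralizer ({y} : Set G)) a.2
          rwa [e', hu] at this
      refine ⟨hua, (orderOf_mul_eq_two_iff hua).2 ⟨?_, fun e => ?_⟩⟩
      · have hc := Subgroup.mem_centralizer_singleton_iff.1 a.2
        calc u * a * y * (u * a) = u * (y * a) * u * a := by rw [mul_assoc u, hc]; simp [mul_assoc]
          _ = u * y * u * (u * a * u) * a := by simp [mul_assoc, Invol.mul_self_cancel hu]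
          _ = y⁻¹ := by rw [hiu, hi, mul_assoc, inv_mul_cancel, mul_one]
      · refine h.not_commute hy (w := y) (e ▸ hua) (Commute.refl y)⟩
  refine (Nat.card_eq_of_bijective f ⟨fun a b hab => ?_, fun v => ?_⟩).symm
  · exact Subtype.ext (mul_left_cancel (congrArg Subtype.val hab))
  · refine ⟨⟨u * v, Subgroup.mem_centralizer_singleton_iff.2 ?_⟩,
      Subtype.ext (Invol.mul_self_cancel hu _)⟩
    obtain ⟨hv, -⟩ := (orderOf_mul_eq_two_iff v.2.1).1 v.2.2
    have e1 : (v : G) * y = y⁻¹ * v := by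
      rw [← hv]; simp [mul_assoc, Invol.inv_mul_self v.2.1]
    have e2 : u * y⁻¹ = y * u := by
      rw [← hiu]; simp [mul_assoc, Invol.mul_self_cancel hu]
    rw [mul_assoc, e1, ← mul_assoc, e2, mul_assoc]

/-! ### The normaliser of a centraliser inverted by `t` -/

theorem normalizer_real (hy : Outside K y) (hiu : t * y * t = y⁻¹) :
    t ∈ normalizer ((centralizer ({y} : Set G)) : Set G) ∧
    ∃ L : Subgroup G, L ≤ K ∧ t ∈ L ∧
      centralizer ({y} : Set G) ⊔ L = normalizer ((centralizer ({y} : Set G)) : Set G) ∧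
      Nat.card (normalizer ((centralizer ({y} : Set G)) : Set G)) =
        Nat.card (centralizer ({y} : Set G)) * Nat.card L ∧
      Nat.card L ∣ Nat.card (centralizer ({y} : Set G)) - 1 := by
  classical
  set A := centralizer ({y} : Set G) with hA
  set N := normalizer (A : Set G) with hN
  have htN : t ∈ N := by
    rw [hN, Subgroup.mem_normalizer_iff]
    have key : ∀ a ∈ A, t * a * t⁻¹ ∈ A := fun a ha => by
      rw [Invol.inv_eq h.ht, h.real_inverted hy h.ht hiu ha]; exact A.inv_mem ha
    intro a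
    refine ⟨key a, fun ha => ?_⟩
    have := key _ ha
    simpa [mul_assoc, Invol.inv_eq h.ht, Invol.mul_self_cancel h.ht, Invol.inv_mul_self h.ht]
      using this
  have hAN : A ≤ N := Subgroup.le_normalizer
  refine ⟨htN, N ⊓ K, inf_le_right, ⟨htN, h.tK⟩, ?_⟩
  have hdec : ∀ n ∈ N, ∃ c ∈ A, ∃ l ∈ N ⊓ K, n = c * l := by
    intro n hn
    have hw : orderOf (n * t * n⁻¹) = 2 := by rw [Invol.orderOf_conj]; exact h.ht
    have hwy : n * t * n⁻¹ * y * (n * t * n⁻¹) = y⁻¹ := by
      have hm : n⁻¹ * y * n ∈ A := ((Subgroup.mem_normalizer_iff''.1 hn) y).1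
        (Subgroup.mem_centralizer_singleton_iff.2 rfl)
      have := congrArg (fun z => n * z * n⁻¹) (h.real_inverted hy h.ht hiu hm)
      simpa [mul_assoc] using this
    have ha : t * (n * t * n⁻¹) ∈ A := by
      rw [hA, Subgroup.mem_centralizer_singleton_iff]
      generalize n * t * n⁻¹ = w at hw hwy
      have e1 : w * y = y⁻¹ * w := by rw [← hwy]; simp [mul_assoc, Invol.inv_mul_self hw]
      have e2 : t * y⁻¹ = y * t := by rw [← hiu]; simp [mul_assoc, Invol.mul_self_cancel h.ht]
      rw [mul_assoc, e1, ← mul_assoc, e2, mul_assoc]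
    obtain ⟨a, hadef⟩ : ∃ a, a = t * (n * t * n⁻¹) := ⟨_, rfl⟩
    rw [← hadef] at ha
    obtain ⟨m, hm⟩ : Odd (orderOf a) := by
      rw [← Nat.not_even_iff_odd, even_iff_two_dvd]
      exact fun hd => h.not_two_dvd_centralizer hy (hd.trans (orderOf_dvd_natCard A ha))
    have hcA : a ^ (m + 1) ∈ A := A.pow_mem ha _
    have hc2 : a ^ (m + 1) * a ^ (m + 1) = a := by
      rw [← pow_add, show m + 1 + (m + 1) = (2 * m + 1) + 1 by omega, pow_succ, ← hm,
        pow_orderOf_eq_one, one_mul]
    generalize a ^ (m + 1) = c at hcA hc2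
    have hnt : n * t * n⁻¹ = c⁻¹ * t * c := by
      rw [← h.real_inverted hy h.ht hiu hcA]
      have : n * t * n⁻¹ = t * a := by rw [hadef, Invol.mul_self_cancel h.ht]
      rw [this, ← hc2]
      simp [mul_assoc, Invol.mul_self_cancel h.ht]
    have hlN : c * n ∈ N := mul_mem (hAN hcA) hn
    refine ⟨c⁻¹, A.inv_mem hcA, c * n, ⟨hlN, ?_⟩, by simp⟩
    have hlH : c * n ∈ centralizer ({t} : Set G) := by
      rw [Subgroup.mem_centralizer_singleton_iff]
      have := congrArg (fun z => c * z * n) hnt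
      simpa [mul_assoc] using this
    generalize c * n = l at hlN hlH
    by_contra hlK
    have hl2 := h.invol_of_notMem hlH hlK
    -- the involution `l` also inverts `A`
    have hly : l * y * l = y⁻¹ := by
      let ψ : A →* A := ((MulAut.conj l).toMonoidHom.comp A.subtype).codRestrict _
        fun a => ((Subgroup.mem_normalizer_iff.1 hlN) a).1 a.2
      have hfp : MonoidHom.FixedPointFree ψ := by
        intro a ha'
        have h1 : l * (a : G) * l⁻¹ = a := congrArg Subtype.val ha'
        by_contra ha1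
        have hao := h.real_outside hy h.ht hiu a.2 (fun e => ha1 (Subtype.ext e))
        exact h.not_commute hao hl2 (mul_inv_eq_iff_eq_mul.1 h1).symm
      have hinv : Function.Involutive ψ := fun a => Subtype.ext (by
        show l * (l * (a : G) * l⁻¹) * l⁻¹ = a
        simp [mul_assoc, Invol.inv_eq hl2, Invol.mul_self_cancel hl2, Invol.inv_mul_self hl2])
      have := congrArg Subtype.val (congrFun (hfp.coe_eq_inv_of_involutive hinv)
        ⟨y, Subgroup.mem_centralizer_singleton_iff.2 rfl⟩)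
      have : l * y * l⁻¹ = y⁻¹ := this
      rwa [Invol.inv_eq hl2] at this
    have htl : t * l ∈ A := by
      rw [hA, Subgroup.mem_centralizer_singleton_iff]
      have e1 : l * y = y⁻¹ * l := by rw [← hly]; simp [mul_assoc, Invol.inv_mul_self hl2]
      have e2 : t * y⁻¹ = y * t := by rw [← hiu]; simp [mul_assoc, Invol.mul_self_cancel h.ht]
      rw [mul_assoc, e1, ← mul_assoc, e2, mul_assoc]
    refine h.not_two_dvd_centralizer hy ?_
    have h2 : orderOf (t * l) = 2 :=
      h.invol_of_notMem (mul_mem (h.leH h.tK) hlH) fun hK => hlK ((K.mul_mem_cancel_left h.tK).1 hK)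
    rw [← h2]; exact orderOf_dvd_natCard A htl
  have hdisj : ∀ c ∈ A, c ∈ K → c = 1 := fun c hc hcK => by
    by_contra hc1
    exact h.real_outside hy h.ht hiu hc hc1 1 (by simpa using hcK)
  refine ⟨le_antisymm (sup_le hAN inf_le_left) fun n hn => ?_, ?_, ?_⟩
  · obtain ⟨c, hc, l, hl, rfl⟩ := hdec n hn
    exact mul_mem (mem_sup_left hc) (mem_sup_right hl)
  · rw [← Nat.card_prod]
    let f : A × ↥(N ⊓ K) → N := fun p => ⟨p.1.1 * p.2.1, mul_mem (hAN p.1.2) p.2.2.1⟩
    refine (Nat.card_eq_of_bijective f ⟨?_, ?_⟩).symm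
    · rintro ⟨a, l⟩ ⟨a', l'⟩ e
      have e' : (a : G) * l = a' * l' := congrArg Subtype.val e
      have h1 : (a' : G)⁻¹ * a = l' * (l : G)⁻¹ := by
        rw [inv_mul_eq_iff_eq_mul, ← mul_assoc, eq_mul_inv_iff_mul_eq]; exact e'
      have h2 := hdisj _ (A.mul_mem (A.inv_mem a'.2) a.2)
        (h1 ▸ K.mul_mem l'.2.2 (K.inv_mem l.2.2))
      have ha' : (a : G) = a' := (inv_mul_eq_one.1 h2).symm
      rw [ha'] at e'
      exact Prod.ext (Subtype.ext ha') (Subtype.ext (mul_left_cancel e'))
    · rintro ⟨n, hn⟩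
      obtain ⟨c, hc, l, hl, rfl⟩ := hdec n hn
      exact ⟨⟨⟨c, hc⟩, ⟨l, hl⟩⟩, rfl⟩
  · let X := {a : A // (a : G) ≠ 1}
    let act : MulAction ↥(N ⊓ K) X :=
      { smul := fun l a => ⟨⟨l.1 * a.1.1 * l.1⁻¹, ((Subgroup.mem_normalizer_iff.1 l.2.1) _).1 a.1.2⟩,
          fun e => a.2 (conj_eq_one_iff.1 e)⟩
        one_smul := fun a => Subtype.ext (Subtype.ext (by
          show ((1 : ↥(N ⊓ K)) : G) * a.1.1 * ((1 : ↥(N ⊓ K)) : G)⁻¹ = a.1.1
          simp))
        mul_smul := fun l m a => Subtype.ext (Subtype.ext (by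
          show (l.1 * m.1) * a.1.1 * (l.1 * m.1)⁻¹ = l.1 * (m.1 * a.1.1 * m.1⁻¹) * l.1⁻¹
          simp [mul_assoc])) }
    have hfree : ∀ a : X, MulAction.stabilizer ↥(N ⊓ K) a = ⊥ := by
      intro a
      rw [eq_bot_iff]
      intro l hl
      have e : l.1 * a.1.1 * l.1⁻¹ = a.1.1 := congrArg (fun z : X => z.1.1) hl
      have hlA : l.1 ∈ A := by
        rw [hA, ← h.real_centralizer_eq hy h.ht hiu a.1.2 a.2,
          Subgroup.mem_centralizer_singleton_iff]
        exact mul_inv_eq_iff_eq_mul.1 e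
      exact Subgroup.mem_bot.2 (Subtype.ext (hdisj _ hlA l.2.2))
    haveI := Fintype.ofFinite A
    have hX : Nat.card X = Nat.card A - 1 := by
      simp [X, Nat.card_eq_fintype_card, Fintype.card_subtype_compl]
    rw [← hX, Nat.card_congr (MulAction.selfEquivOrbitsQuotientProd hfree), Nat.card_prod]
    exact Dvd.intro_left _ rfl

end Hyp

end Cfsg.Agent.BSWall
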