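import Cfsg.Agent.BSWall.Real

/-!
# The dichotomy for `|K| = 2`
-/

set_option autoImplicit false

namespace Cfsg.Agent.BSWall

open Subgroup

variable {G : Type*} [Group G]

theorem sum_cnt [Fintype G] : ∑ y : G, cnt y = nInv G * nInv G := by
  simp only [cnt, nInv]
  rw [← Nat.card_sigma, ← Nat.card_prod]
  exact Nat.card_congr
    { toFun := fun p => (⟨p.2.1, p.2.2.1⟩, ⟨p.2.1 * p.1, p.2.2.2⟩)
      invFun := fun q => ⟨q.1.1 * q.2.1, q.1.1, q.1.2, by
        rw [Invol.mul_self_cancel q.1.2]; exact q.2.2⟩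
      left_inv := by
        rintro ⟨y, u, hu, hu2⟩
        exact Sigma.subtype_ext (Invol.mul_self_cancel hu y) rfl
      right_inv := fun q => Prod.ext rfl (Subtype.ext (Invol.mul_self_cancel q.1.2 q.2.1)) }

open scoped Classical in
theorem card_family_finset [Fintype G] (A : Subgroup G) :
    ({z | IntoConj A z} : Finset G).card = Nat.card {z : G // IntoConj A z} := by
  rw [Nat.card_eq_fintype_card, Fintype.card_subtype]

namespace Hyp

variable {t s : G} {K : Subgroup G} (h : Hyp t K s)
include h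

open scoped Classical in
theorem sum_cnt_outside [Fintype G] :
    ∑ y with Outside K y, cnt y + nInv G * ((Nat.card K - 1) * Nat.card K) + nInv G =
      nInv G * nInv G := by
  have h1 := sum_intoConj K _ (fun g hg x hx => h.conj_mem hg hx)
    (fun g x hx hx1 hgx => h.mem_H_of_conj hx hx1 hgx) (fun y => cnt y)
    (fun g c => cnt_conj c g)
  have h2 : ∑ x : K with x ≠ 1, cnt (x : G) = (Nat.card K - 1) * Nat.card K := by
    rw [Finset.sum_congr rfl (fun (x : K) (hx : x ∈ ({x | x ≠ 1} : Finset K)) => h.cnt_of_mem_K x.2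
      (fun e => (Finset.mem_filter.1 hx).2 (Subtype.ext e))), Finset.sum_const, Finset.filter_ne',
      Finset.card_erase_of_mem (Finset.mem_univ _), Finset.card_univ, smul_eq_mul,
      Nat.card_eq_fintype_card]
  rw [h.index_H, h2, smul_eq_mul] at h1
  rw [← h1, ← sum_cnt, ← Finset.sum_filter_add_sum_filter_not Finset.univ (Outside K) cnt,
    add_assoc]
  congr 1
  have h3 : ({y | ¬ Outside K y} : Finset G) = insert 1 ({y | IntoConj K y} : Finset G) := by
    ext y
    simp only [Finset.mem_filter, Finset.mem_univ, true_and, Finset.mem_insert, outside_iff,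
      not_and, not_not]
    by_cases hy : y = 1
    · simp [hy]
    · simp [hy]
  have h4 : (1 : G) ∉ ({y | IntoConj K y} : Finset G) := fun e => (Finset.mem_filter.1 e).2.1 rfl
  rw [h3, Finset.sum_insert h4, cnt_one, add_comm]

theorem exists_family [Finite G] (hk : Nat.card K = 2) {y : G} (hy : Outside K y)
    (hc : cnt y ≠ 0) :
    ∃ a : ℕ, 3 ≤ a ∧ ¬ 2 ∣ a ∧ a ∣ Nat.card G ∧
      IntoConj (centralizer ({y} : Set G)) y ∧
      (∀ z, IntoConj (centralizer ({y} : Set G)) z → Outside K z ∧ cnt z = a) ∧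
      Nat.card {z : G // IntoConj (centralizer ({y} : Set G)) z} * (a * 2) + Nat.card G =
        Nat.card G * a := by
  obtain ⟨u, hu, hiu⟩ := exists_inverting hc
  obtain ⟨-, l, hl, hlk, h2l, -⟩ := h.real_normalizer hy hu hiu
  have hl2 : l = 2 := Nat.dvd_antisymm (hk ▸ hlk) h2l
  subst hl2
  exact ⟨_, h.three_le_card hy, h.not_two_dvd_centralizer hy, Subgroup.card_subgroup_dvd_card _,
    ⟨hy.ne_one, 1, by simp [Subgroup.mem_centralizer_singleton_iff]⟩,
    fun z hz => h.of_intoConj_centralizer hy hu hiu hz, h.card_family hy hu hiu hl⟩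

theorem small [Finite G] (hk : Nat.card K = 2) :
    (nInv G = 3 ∧ (∀ y, Outside K y → cnt y = 0) ∧
      Nat.card {y : G // Outside K y ∧ cnt y = 0} = 8) ∨
    (nInv G = 15 ∧ (∀ y, Outside K y → cnt y = 5 ∨ cnt y = 3) ∧
      Nat.card {y : G // Outside K y ∧ cnt y = 5} = 24) := by
  classical
  haveI := Fintype.ofFinite G
  have hS := h.sum_cnt_outside
  have hO := h.card_outside
  have hg := h.card_G
  simp only [hk] at hS hO hg
  rw [Nat.card_eq_fintype_card (α := {y : G // Outside K y}), Fintype.card_subtype] at hO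
  by_cases h0 : ∀ y, Outside K y → cnt y = 0
  · left
    have hs0 : ∑ y with Outside K y, cnt y = 0 :=
      Finset.sum_eq_zero fun y hy => h0 y (Finset.mem_filter.1 hy).2
    have hI : 0 < nInv G := by
      have : Nonempty {u : G // orderOf u = 2} := ⟨⟨t, h.ht⟩⟩
      exact Nat.card_pos
    have h3 : nInv G = 3 := by nlinarith
    refine ⟨h3, h0, ?_⟩
    rw [Nat.card_congr (Equiv.subtypeEquivRight (fun y =>
      ⟨And.left, fun hy => ⟨hy, h0 y hy⟩⟩ : ∀ y, (Outside K y ∧ cnt y = 0) ↔ Outside K y)),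
      Nat.card_eq_fintype_card, Fintype.card_subtype]
    rw [h3] at hO hg
    omega
  push Not at h0
  obtain ⟨y, hy, hcy⟩ := h0
  obtain ⟨a, ha3, hao, hag, hyF, hF, hFc⟩ := h.exists_family hk hy hcy
  rw [← card_family_finset] at hFc
  obtain ⟨O, hOdef⟩ : ∃ O : Finset G, O = ({z | Outside K z} : Finset G) := ⟨_, rfl⟩
  obtain ⟨F, hFdef⟩ : ∃ F : Finset G,
      F = ({z | IntoConj (centralizer ({y} : Set G)) z} : Finset G) := ⟨_, rfl⟩
  rw [← hOdef] at hS hO
  rw [← hFdef] at hFc
  have hFO : F ⊆ O := fun z hz => by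
    simp only [hFdef, Finset.mem_filter] at hz
    simp [hOdef, (hF z hz.2).1]
  have hsF : ∑ z ∈ F, cnt z = F.card * a := by
    rw [Finset.sum_congr rfl (fun z hz => (hF z (by simp [hFdef] at hz; exact hz)).2),
      Finset.sum_const, smul_eq_mul]
  by_cases h1 : ∀ z ∈ O, z ∉ F → cnt z = 0
  · exfalso
    have hs : ∑ z ∈ O, cnt z = F.card * a := by
      rw [← Finset.sum_subset hFO h1, hsF]
    rw [hs] at hS
    have hI0 : 0 < nInv G := by
      have : Nonempty {u : G // orderOf u = 2} := ⟨⟨t, h.ht⟩⟩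
      exact Nat.card_pos
    rw [hg] at hFc
    have e : nInv G = 2 * a + 1 := Nat.eq_of_mul_eq_mul_left hI0 (by linarith)
    rw [hg, e] at hag
    have h4 : a ∣ 4 := by
      have h8 : a ∣ 2 * 2 * (2 * a) := dvd_mul_of_dvd_right (dvd_mul_left a 2) _
      rw [mul_add, mul_one] at hag
      exact (Nat.dvd_add_right h8).1 hag
    have := Nat.le_of_dvd (by norm_num) h4
    interval_cases a <;> omega
  push Not at h1
  obtain ⟨z, hz, hzF, hcz⟩ := h1
  have hzO : Outside K z := by simpa [hOdef] using hz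
  obtain ⟨b, hb3, hbo, hbg, hzF', hF', hF'c⟩ := h.exists_family hk hzO hcz
  rw [← card_family_finset] at hF'c
  obtain ⟨F', hF'def⟩ : ∃ F' : Finset G,
      F' = ({w | IntoConj (centralizer ({z} : Set G)) w} : Finset G) := ⟨_, rfl⟩
  rw [← hF'def] at hF'c
  have hF'O : F' ⊆ O := fun w hw => by
    simp only [hF'def, Finset.mem_filter] at hw
    simp [hOdef, (hF' w hw.2).1]
  have hdisj : ∀ {p q : G}, Outside K p → cnt p ≠ 0 → Outside K q → cnt q ≠ 0 →
      ¬ IntoConj (centralizer ({p} : Set G)) q →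
      Disjoint ({w | IntoConj (centralizer ({p} : Set G)) w} : Finset G)
        ({w | IntoConj (centralizer ({q} : Set G)) w} : Finset G) := by
    intro p q hp hcp hq hcq hn
    obtain ⟨u, hu, hiu⟩ := exists_inverting hcp
    obtain ⟨u', hu', hiu'⟩ := exists_inverting hcq
    rw [Finset.disjoint_left]
    intro w hw hw'
    simp only [Finset.mem_filter] at hw hw'
    exact hn (h.intoConj_centralizer_disjoint hp hu hiu hq hu' hiu' hw.2 hw'.2)
  have hd : Disjoint F F' := by
    rw [hFdef, hF'def]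
    exact hdisj hy hcy hzO hcz (by simpa [hFdef] using hzF)
  have hge : ∀ {m c : ℕ}, 3 ≤ c → m * (c * 2) + Nat.card G = Nat.card G * c →
      Nat.card G ≤ 3 * m := fun {m c} hc e => by nlinarith
  have hU : F ∪ F' ⊆ O := Finset.union_subset hFO hF'O
  have hcard : (F ∪ F').card = F.card + F'.card := Finset.card_union_of_disjoint hd
  have hall : ∀ w ∈ O, w ∉ F ∪ F' → cnt w = 0 := by
    intro w hw hwn
    by_contra hcw
    have hwO : Outside K w := by simpa [hOdef] using hw
    simp only [Finset.mem_union, not_or] at hwn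
    obtain ⟨c, hc3, -, -, -, hF'', hF''c⟩ := h.exists_family hk hwO hcw
    rw [← card_family_finset] at hF''c
    obtain ⟨F'', hF''def⟩ : ∃ F'' : Finset G,
        F'' = ({v | IntoConj (centralizer ({w} : Set G)) v} : Finset G) := ⟨_, rfl⟩
    rw [← hF''def] at hF''c
    have hsub : F ∪ F' ∪ F'' ⊆ O := Finset.union_subset hU fun v hv => by
      simp only [hF''def, Finset.mem_filter] at hv
      simp [hOdef, (hF'' v hv.2).1]
    have hd2 : Disjoint (F ∪ F') F'' := by
      rw [Finset.disjoint_union_left]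
      refine ⟨?_, ?_⟩
      · rw [hFdef, hF''def]
        exact hdisj hy hcy hwO hcw (by simpa [hFdef] using hwn.1)
      · rw [hF'def, hF''def]
        exact hdisj hzO hcz hwO hcw (by simpa [hF'def] using hwn.2)
    have := Finset.card_le_card hsub
    rw [Finset.card_union_of_disjoint hd2, hcard] at this
    have := hge ha3 hFc
    have := hge hb3 hF'c
    have := hge hc3 hF''c
    omega
  have hsF' : ∑ w ∈ F', cnt w = F'.card * b := by
    rw [Finset.sum_congr rfl (fun w hw => (hF' w (by simp [hF'def] at hw; exact hw)).2),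
      Finset.sum_const, smul_eq_mul]
  have hs : ∑ w ∈ O, cnt w = F.card * a + F'.card * b := by
    rw [← Finset.sum_subset hU hall, Finset.sum_union hd, hsF, hsF']
  rw [hs] at hS
  have hIpos : 0 < nInv G := by
    have : Nonempty {u : G // orderOf u = 2} := ⟨⟨t, h.ht⟩⟩
    exact Nat.card_pos
  rw [hg] at hag hbg hFc hF'c hO hge
  have eF : F.card * a + 2 * nInv G = 2 * nInv G * a := by linarith
  have eF' : F'.card * b + 2 * nInv G = 2 * nInv G * b := by linarith
  have hIeq : nInv G + 1 = 2 * a + 2 * b := Nat.eq_of_mul_eq_mul_left hIpos (by linarith)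
  have hle := Finset.card_le_card hU
  rw [hcard] at hle
  have hab : a * b < 2 * (a + b) := by
    have e1 : (F.card + F'.card) * (a * b) + 2 * nInv G * (a + b) = 4 * nInv G * (a * b) := by
      have i1 := congrArg (· * b) eF
      have i2 := congrArg (· * a) eF'
      linarith
    have e2 : (F.card + F'.card + 1) * (a * b) ≤ 3 * nInv G * (a * b) :=
      Nat.mul_le_mul_right _ (by omega)
    have h0 : 0 < a * b := by positivity
    refine Nat.lt_of_mul_lt_mul_left (a := nInv G) ?_
    linarith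
  have ha' : a ≤ 5 := by nlinarith
  have hb' : b ≤ 5 := by nlinarith
  have hpairs : (a = 3 ∧ b = 5) ∨ (a = 5 ∧ b = 3) := by
    rw [Nat.eq_sub_of_add_eq hIeq] at hag hbg
    interval_cases a <;> interval_cases b <;> omega
  have hI : nInv G = 15 := by rcases hpairs with ⟨rfl, rfl⟩ | ⟨rfl, rfl⟩ <;> omega
  rw [hI] at hFc hF'c hO
  have hOU : F ∪ F' = O := Finset.eq_of_subset_of_card_le hU (by
    rw [hcard]
    rcases hpairs with ⟨rfl, rfl⟩ | ⟨rfl, rfl⟩ <;> omega)
  right
  have hval : ∀ w, Outside K w → w ∈ F ∧ cnt w = a ∨ w ∈ F' ∧ cnt w = b := by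
    intro w hw
    have : w ∈ F ∪ F' := by rw [hOU]; simp [hOdef, hw]
    rcases Finset.mem_union.1 this with hw' | hw'
    · exact Or.inl ⟨hw', (hF w (by simpa [hFdef] using hw')).2⟩
    · exact Or.inr ⟨hw', (hF' w (by simpa [hF'def] using hw')).2⟩
  refine ⟨hI, fun w hw => ?_, ?_⟩
  · rcases hval w hw with ⟨-, e⟩ | ⟨-, e⟩ <;> rw [e] <;> omega
  rw [Nat.card_eq_fintype_card, Fintype.card_subtype]
  rcases hpairs with ⟨rfl, rfl⟩ | ⟨rfl, rfl⟩
  · have : ({w | Outside K w ∧ cnt w = 5} : Finset G) = F' := by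
      ext w
      simp only [Finset.mem_filter, Finset.mem_univ, true_and]
      refine ⟨fun hw => ?_, fun hw => hF' w (by simpa [hF'def] using hw)⟩
      rcases hval w hw.1 with ⟨-, e⟩ | ⟨hw', -⟩
      · omega
      · exact hw'
    rw [this]; omega
  · have : ({w | Outside K w ∧ cnt w = 5} : Finset G) = F := by
      ext w
      simp only [Finset.mem_filter, Finset.mem_univ, true_and]
      refine ⟨fun hw => ?_, fun hw => hF w (by simpa [hFdef] using hw)⟩
      rcases hval w hw.1 with ⟨hw', -⟩ | ⟨-, e⟩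
      · exact hw'
      · omega
    rw [this]; omega

end Hyp

end Cfsg.Agent.BSWall
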