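import Mathlib.GroupTheory.Index
import Mathlib.GroupTheory.QuotientGroup.Basic
import Mathlib.Algebra.BigOperators.Group.Finset.Basic
import Mathlib.Data.Fintype.BigOperators
import Mathlib.GroupTheory.Sylow
import Mathlib.GroupTheory.Transfer

/-!
# Counting the conjugates of a trivial-intersection subgroup, and odd subgroups with trivial fusion
-/

set_option autoImplicit false

namespace Cfsg.Agent.BSWall

open Subgroup

variable {G : Type*} [Group G]

/-- `y` is a non-identity element conjugate to an element of `A`. -/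
def IntoConj (A : Subgroup G) (y : G) : Prop := y ≠ 1 ∧ ∃ g : G, g⁻¹ * y * g ∈ A

/-- The conjugates of the non-identity elements of a TI subgroup `A` correspond to pairs of a coset
of its normaliser `N` and a non-identity element of `A`. -/
noncomputable def tiEquiv (A N : Subgroup G) (hN : ∀ g ∈ N, ∀ x ∈ A, g * x * g⁻¹ ∈ A)
    (hTI : ∀ g : G, ∀ x ∈ A, x ≠ 1 → g * x * g⁻¹ ∈ A → g ∈ N) :
    (G ⧸ N) × {x : A // x ≠ 1} ≃ {y : G // IntoConj A y} := by
  refine Equiv.ofBijective (fun p => ⟨p.1.out * (p.2.1 : G) * p.1.out⁻¹, ?_, p.1.out, ?_⟩) ⟨?_, ?_⟩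
  · intro h
    exact p.2.2 (Subtype.ext (conj_eq_one_iff.1 h))
  · simp [mul_assoc]
  · rintro ⟨c, ⟨⟨x, hx⟩, hx1⟩⟩ ⟨d, ⟨⟨y, hy⟩, hy1⟩⟩ h
    have h' : c.out * x * c.out⁻¹ = d.out * y * d.out⁻¹ := congrArg Subtype.val h
    have hx1' : x ≠ 1 := fun e => hx1 (Subtype.ext e)
    have hy' : d.out⁻¹ * c.out * x * (d.out⁻¹ * c.out)⁻¹ = y := by
      have := congrArg (fun z => d.out⁻¹ * z * d.out) h'
      simpa [mul_assoc] using this
    have hm : d.out⁻¹ * c.out ∈ N := hTI _ x hx hx1' (hy'.symm ▸ hy)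
    have hcd : d = c := by
      have := QuotientGroup.eq.2 hm
      rwa [QuotientGroup.out_eq', QuotientGroup.out_eq'] at this
    subst hcd
    have : x = y := by simpa using hy'
    subst this
    rfl
  · rintro ⟨y, hy1, g, hg⟩
    obtain ⟨⟨n, hn⟩, hgn⟩ := QuotientGroup.mk_out_eq_mul N g
    refine ⟨⟨QuotientGroup.mk g, ⟨⟨n⁻¹ * (g⁻¹ * y * g) * n, ?_⟩, ?_⟩⟩, ?_⟩
    · simpa using hN n⁻¹ (N.inv_mem hn) _ hg
    · intro h
      have h' : n⁻¹ * (g⁻¹ * y * g) * n = 1 := congrArg Subtype.val h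
      apply hy1
      have := congrArg (fun z => g * n * z * n⁻¹ * g⁻¹) h'
      simpa [mul_assoc] using this
    · apply Subtype.ext
      show (QuotientGroup.mk g : G ⧸ N).out * _ * _⁻¹ = y
      rw [hgn]
      simp [mul_assoc]

theorem card_intoConj [Finite G] (A N : Subgroup G) (hN : ∀ g ∈ N, ∀ x ∈ A, g * x * g⁻¹ ∈ A)
    (hTI : ∀ g : G, ∀ x ∈ A, x ≠ 1 → g * x * g⁻¹ ∈ A → g ∈ N) :
    Nat.card {y : G // IntoConj A y} = N.index * (Nat.card A - 1) := by
  classical
  haveI := Fintype.ofFinite G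
  rw [← Nat.card_congr (tiEquiv A N hN hTI), Nat.card_prod, Subgroup.index]
  congr 1
  simp [Nat.card_eq_fintype_card, Fintype.card_subtype_compl]

open scoped Classical in
theorem sum_intoConj [Fintype G] {M : Type*} [AddCommMonoid M] (A N : Subgroup G)
    (hN : ∀ g ∈ N, ∀ x ∈ A, g * x * g⁻¹ ∈ A)
    (hTI : ∀ g : G, ∀ x ∈ A, x ≠ 1 → g * x * g⁻¹ ∈ A → g ∈ N)
    (f : G → M) (hf : ∀ g h : G, f (h * g * h⁻¹) = f g) :
    ∑ y with IntoConj A y, f y = N.index • ∑ x : A with x ≠ 1, f x := by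
  rw [Finset.sum_subtype (p := IntoConj A) _ (by simp) f, ← (tiEquiv A N hN hTI).sum_comp,
    Fintype.sum_prod_type]
  have : ∀ c : G ⧸ N, ∑ x : {x : A // x ≠ 1}, f ((tiEquiv A N hN hTI) (c, x) : G) =
      ∑ x : A with x ≠ 1, f x := by
    intro c
    rw [Finset.sum_subtype (p := fun x : A => x ≠ 1) _ (by simp) (fun x : A => f x)]
    exact Finset.sum_congr rfl fun x _ => hf _ _
  simp only [this, Finset.sum_const, Finset.card_univ, ← Nat.card_eq_fintype_card, Subgroup.index]

/-- If, for every prime `s` other than `r`, the normaliser of a Sylow `s`-subgroup centralises it,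
then the Sylow `r`-subgroup is normal, hence unique. -/
theorem subsingleton_sylow_of_forall {M : Type*} [Group M] [Finite M] {r : ℕ} [Fact r.Prime]
    (h : ∀ s : ℕ, s.Prime → s ≠ r → s ∣ Nat.card M → ∀ S : Sylow s M,
      Subgroup.normalizer ((S : Subgroup M) : Set M) ≤ Subgroup.centralizer ((S : Subgroup M) : Set M)) :
    Subsingleton (Sylow r M) := by
  classical
  let C : Subgroup M := ⨅ (N : Subgroup M) (_ : ¬ r ∣ N.index) (_ : N.Normal), N
  have hC : ∀ x : M, ∀ k : ℕ, x ^ r ^ k = 1 → x ∈ C := by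
    intro x k hx
    simp only [C, Subgroup.mem_iInf]
    intro N hN hn
    rw [← QuotientGroup.eq_one_iff, ← orderOf_eq_one_iff]
    refine Nat.eq_one_of_dvd_coprimes (Nat.Coprime.pow_left k
      ((Nat.Prime.coprime_iff_not_dvd Fact.out).2 hN))
      (orderOf_dvd_of_pow_eq_one ?_) (orderOf_dvd_natCard _)
    rw [← QuotientGroup.mk_pow, hx, QuotientGroup.mk_one]
  have hCp : ∀ s : ℕ, s.Prime → s ≠ r → ¬ s ∣ Nat.card C := by
    intro s hs hsr hd
    haveI := Fact.mk hs
    obtain ⟨S⟩ : Nonempty (Sylow s M) := inferInstance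
    have hsM := hd.trans C.card_subgroup_dvd_card
    let f := MonoidHom.transferSylow S (h s hs hsr hsM S)
    have hc : f.ker.IsComplement' (S : Subgroup M) :=
      MonoidHom.ker_transferSylow_isComplement' S _
    have hidx : f.ker.index = Nat.card S := hc.symm.index_eq_card
    have hle : C ≤ f.ker := by
      refine iInf_le_of_le f.ker (iInf_le_of_le ?_ (iInf_le_of_le inferInstance le_rfl))
      rw [hidx]
      obtain ⟨j, hj⟩ := IsPGroup.iff_card.1 S.isPGroup'
      rw [hj]
      exact fun hr => hsr ((Nat.prime_dvd_prime_iff_eq Fact.out hs).1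
        ((Fact.out : r.Prime).dvd_of_dvd_pow hr)).symm
    have h1 : ¬ s ∣ Nat.card f.ker := by
      rw [show Nat.card f.ker = (S : Subgroup M).index from hc.index_eq_card.symm]
      exact S.not_dvd_index
    exact h1 (hd.trans (Subgroup.card_dvd_of_le hle))
  have hCr : IsPGroup r C := by
    rw [IsPGroup.iff_card]
    refine ⟨(Nat.card C).primeFactorsList.length, Nat.eq_prime_pow_of_unique_prime_dvd Nat.card_pos.ne' ?_⟩
    intro s hs hd
    by_contra hne
    exact hCp s hs hne hd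
  refine ⟨fun S T => ?_⟩
  have hle : ∀ S : Sylow r M, (S : Subgroup M) = C := by
    intro S
    refine (S.is_maximal' hCr fun x hx => ?_).symm
    obtain ⟨k, hk⟩ := S.isPGroup' ⟨x, hx⟩
    exact hC x k (congrArg Subtype.val hk)
  exact Sylow.ext ((hle S).trans (hle T).symm)

end Cfsg.Agent.BSWall
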